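import Mathlib
import Groth.Prelude.Def_CInt

/-! Vanishing first Koszul homology and regular sequences for separated modules. -/

set_option autoImplicit false

universe u v w

open RingTheory.Sequence

namespace Groth.Agent.SmallAlgLib

/-- Submodules reproduced by the multiples by elements of `I` of themselves vanish. -/
def NoDivisible {A : Type u} [CommRing A] (I : Ideal A) (H : Type v) [AddCommGroup H] [Module A H] : Prop :=
  ∀ a ∈ I, ∀ Z B : Submodule A H, B ≤ Z → (∀ z ∈ Z, ∃ w ∈ Z, z - a • w ∈ B) → Z ≤ B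

variable {A : Type u} [CommRing A] {I : Ideal A} {M : Type v} [AddCommGroup M] [Module A M]

theorem noDivisible_of_isHausdorff (h : ∀ (N : Submodule A M) (N' : Submodule A N), IsHausdorff I (N ⧸ N')) :
    NoDivisible I M := by
  intro a ha Z B _ hdiv z hz
  haveI := h Z (B.comap Z.subtype)
  have key : ∀ k : ℕ, ∀ z : Z, ∃ w : Z, (Submodule.Quotient.mk z : Z ⧸ B.comap Z.subtype) = a ^ k • Submodule.Quotient.mk w := by
    intro k
    induction k with
    | zero => exact fun z => ⟨z, by rw [pow_zero, one_smul]⟩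
    | succ k ih =>
      intro z
      obtain ⟨w, hw⟩ := ih z
      obtain ⟨w', hw', hww'⟩ := hdiv w.1 w.2
      refine ⟨⟨w', hw'⟩, hw.trans ?_⟩
      rw [pow_succ, mul_smul]
      congr 1
      rw [← Submodule.Quotient.mk_smul, Submodule.Quotient.eq]
      exact hww'
  have hzero : (Submodule.Quotient.mk (⟨z, hz⟩ : Z) : Z ⧸ B.comap Z.subtype) = 0 := by
    refine IsHausdorff.haus' (I := I) _ fun k => ?_
    rw [SModEq.zero]
    obtain ⟨w, hw⟩ := key k ⟨z, hz⟩
    rw [hw]
    exact Submodule.smul_mem_smul (Ideal.pow_mem_pow ha k) Submodule.mem_top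
  exact (Submodule.Quotient.mk_eq_zero (B.comap Z.subtype)).1 hzero

theorem NoDivisible.prod {M' : Type w} [AddCommGroup M'] [Module A M'] (h : NoDivisible I M) (h' : NoDivisible I M') :
    NoDivisible I (M × M') := by
  intro a ha Z B hBZ hdiv
  have h1 : Z.map (LinearMap.fst A M M') ≤ B.map (LinearMap.fst A M M') := by
    refine h a ha _ _ (Submodule.map_mono hBZ) ?_
    rintro _ ⟨z, hz, rfl⟩
    obtain ⟨w, hw, hwb⟩ := hdiv z hz
    exact ⟨w.1, ⟨w, hw, rfl⟩, ⟨_, hwb, rfl⟩⟩
  have hsplit : ∀ z ∈ Z, ∃ b ∈ B, (z - b).1 = 0 := fun z hz => by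
    obtain ⟨b, hb, hb'⟩ := h1 ⟨z, hz, rfl⟩
    exact ⟨b, hb, sub_eq_zero.2 hb'.symm⟩
  have h2 : Z.comap (LinearMap.inr A M M') ≤ B.comap (LinearMap.inr A M M') := by
    refine h' a ha _ _ (Submodule.comap_mono hBZ) fun z hz => ?_
    obtain ⟨w, hw, hwb⟩ := hdiv (0, z) hz
    obtain ⟨b, hb, hb0⟩ := hsplit w hw
    have he : ((0 : M), (w - b).2) = w - b := Prod.ext hb0.symm rfl
    refine ⟨(w - b).2, ?_, ?_⟩
    · show ((0 : M), (w - b).2) ∈ Z
      rw [he]
      exact sub_mem hw (hBZ hb)
    · show ((0 : M), z - a • (w - b).2) ∈ B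
      have : ((0 : M), z - a • (w - b).2) = ((0, z) - a • w) + a • b := by
        rw [show ((0 : M), z - a • (w - b).2) = ((0 : M), z) - a • ((0 : M), (w - b).2) by simp, he, smul_sub]
        abel
      rw [this]
      exact add_mem hwb (B.smul_mem a hb)
  intro z hz
  obtain ⟨b, hb, hb0⟩ := hsplit z hz
  have he : ((0 : M), (z - b).2) = z - b := Prod.ext hb0.symm rfl
  have h3 : ((0 : M), (z - b).2) ∈ B := h2 (show ((0 : M), (z - b).2) ∈ Z by rw [he]; exact sub_mem hz (hBZ hb))
  rw [he] at h3
  simpa using add_mem h3 hb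

theorem NoDivisible.of_equiv {H : Type w} [AddCommGroup H] [Module A H] (e : H ≃ₗ[A] M) (h : NoDivisible I M) :
    NoDivisible I H := by
  intro a ha Z B hBZ hdiv
  have := h a ha (Z.map e.toLinearMap) (B.map e.toLinearMap) (Submodule.map_mono hBZ) (by
    rintro _ ⟨z, hz, rfl⟩
    obtain ⟨w, hw, hwb⟩ := hdiv z hz
    exact ⟨e w, ⟨w, hw, rfl⟩, ⟨_, hwb, by simp⟩⟩)
  rwa [Submodule.map_le_map_iff_of_injective e.injective] at this

theorem noDivisible_pi (h : NoDivisible I M) : ∀ n : ℕ, NoDivisible I (Fin n → M)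
  | 0 => fun a _ Z B _ _ z _ => by rw [Subsingleton.elim z 0]; exact zero_mem B
  | n + 1 => NoDivisible.of_equiv (Fin.consLinearEquiv A (fun _ : Fin (n + 1) => M)).symm (h.prod (noDivisible_pi h n))

/-- Vanishing `H_1` makes the sequence weakly regular when no subquotient is divisible. -/
theorem isWeaklyRegular_of_koszulH1Zero (hM : NoDivisible I M) : ∀ {n : ℕ} (f : Fin n → A), (∀ i, f i ∈ I) →
    CInt.KoszulH1Zero f M → IsWeaklyRegular M (List.ofFn f) := by
  classical
  intro n
  induction n with
  | zero => intro f _ _; rw [List.ofFn_zero]; exact IsWeaklyRegular.nil A M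
  | succ n ih =>
    intro f hf h
    let f' : Fin n → A := fun i => f i.castSucc
    let B : Submodule A (Fin n → M) :=
      Submodule.span A {v | ∃ (i j : Fin n) (x : M), v = f' j • (Pi.single i x : Fin n → M) - f' i • (Pi.single j x : Fin n → M)}
    let Φ : (Fin n → M) →ₗ[A] M := ∑ i, f' i • LinearMap.proj i
    have hΦ : ∀ w, Φ w = ∑ i, f' i • w i := fun w => by simp [Φ]
    have hres : ∀ (i : Fin n) (x : M), (fun k => (Pi.single i.castSucc x : Fin (n + 1) → M) k.castSucc) = Pi.single i x := fun i x => by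
      funext k
      simp [Pi.single_apply, Fin.castSucc_inj]
    have hlast : ∀ x : M, (fun k : Fin n => (Pi.single (Fin.last n) x : Fin (n + 1) → M) k.castSucc) = 0 := fun x => by
      funext k
      simp [Pi.single_apply, Fin.castSucc_ne_last]
    have hΦs : ∀ (i : Fin n) (x : M), Φ (Pi.single i x) = f' i • x := fun i x => by
      rw [hΦ, Finset.sum_eq_single i (fun k _ hk => by rw [Pi.single_eq_of_ne hk, smul_zero])
        (fun hh => absurd (Finset.mem_univ i) hh), Pi.single_eq_same]
    have key : ∀ v : Fin (n + 1) → M, v ∈ Submodule.span A {v : Fin (n + 1) → M | ∃ (i j : Fin (n + 1)) (x : M),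
        v = f j • (Pi.single i x : Fin (n + 1) → M) - f i • (Pi.single j x : Fin (n + 1) → M)} →
        ∃ w : Fin n → M, (fun k => v k.castSucc) - f (Fin.last n) • w ∈ B ∧ v (Fin.last n) = -Φ w := by
      intro v hv
      induction hv using Submodule.span_induction with
      | mem v hv =>
        obtain ⟨i, j, x, rfl⟩ := hv
        have hexp : (fun k : Fin n => (f j • (Pi.single i x : Fin (n + 1) → M) - f i • (Pi.single j x : Fin (n + 1) → M)) k.castSucc) =
            f j • (fun k : Fin n => (Pi.single i x : Fin (n + 1) → M) k.castSucc) -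
              f i • (fun k => (Pi.single j x : Fin (n + 1) → M) k.castSucc) := rfl
        rw [hexp]
        induction i using Fin.lastCases with
        | last =>
          induction j using Fin.lastCases with
          | last => exact ⟨0, by simp [hlast], by simp⟩
          | cast j =>
            refine ⟨-Pi.single j x, ?_, ?_⟩
            · rw [hlast, hres]; simp
            · simp [hΦs, f', Pi.single_apply, (Fin.castSucc_ne_last j).symm]
        | cast i =>
          induction j using Fin.lastCases with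
          | last =>
            refine ⟨Pi.single i x, ?_, ?_⟩
            · rw [hlast, hres]; simp
            · simp [hΦs, f', Pi.single_apply, (Fin.castSucc_ne_last i).symm]
          | cast j =>
            refine ⟨0, ?_, by simp [Pi.single_apply, (Fin.castSucc_ne_last i).symm, (Fin.castSucc_ne_last j).symm]⟩
            rw [hres, hres, smul_zero, sub_zero]
            exact Submodule.subset_span ⟨i, j, x, rfl⟩
      | zero => exact ⟨0, by simp; exact zero_mem B, by simp⟩
      | add u v _ _ hu hv =>
        obtain ⟨a, ha, ha'⟩ := hu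
        obtain ⟨b, hb, hb'⟩ := hv
        refine ⟨a + b, ?_, by rw [Pi.add_apply, ha', hb', map_add, neg_add]⟩
        convert add_mem ha hb using 1
        funext k
        simp only [Pi.sub_apply, Pi.add_apply, Pi.smul_apply, smul_add]
        abel
      | smul c u _ hu =>
        obtain ⟨a, ha, ha'⟩ := hu
        refine ⟨c • a, ?_, by rw [Pi.smul_apply, ha', map_smul, smul_neg]⟩
        convert B.smul_mem c ha using 1
        funext k
        simp only [Pi.sub_apply, Pi.smul_apply, smul_sub, smul_comm c]
    have hsum : ∀ m : Fin (n + 1) → M, ∑ i, f i • m i = Φ (fun k => m k.castSucc) + f (Fin.last n) • m (Fin.last n) := fun m => by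
      rw [Fin.sum_univ_castSucc, hΦ]
    have hBZ : B ≤ LinearMap.ker Φ := by
      rw [Submodule.span_le]
      rintro _ ⟨i, j, x, rfl⟩
      simp [hΦs, smul_smul, mul_comm (f' i)]
    have hdesc : CInt.KoszulH1Zero f' M := by
      intro m hm
      refine noDivisible_pi hM n (f (Fin.last n)) (hf _) (LinearMap.ker Φ) B hBZ (fun z hz => ?_)
        (LinearMap.mem_ker.2 ((hΦ m).trans hm))
      have hmz : ∑ i, f i • (Fin.snoc z 0 : Fin (n + 1) → M) i = 0 := by
        rw [hsum]
        simp [LinearMap.mem_ker.1 hz]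
      obtain ⟨w, hw, hw'⟩ := key _ (h _ hmz)
      simp at hw hw'
      exact ⟨w, LinearMap.mem_ker.2 hw', hw⟩
    rw [List.ofFn_succ', List.concat_eq_append, isWeaklyRegular_append_iff, isWeaklyRegular_singleton_iff]
    refine ⟨ih f' (fun i => hf _) hdesc, ?_⟩
    rw [isSMulRegular_iff_right_eq_zero_of_smul]
    intro q hq
    obtain ⟨m, rfl⟩ := Submodule.Quotient.mk_surjective _ q
    rw [← Submodule.Quotient.mk_smul, Submodule.Quotient.mk_eq_zero] at hq
    rw [Submodule.Quotient.mk_eq_zero]
    have hspan : (Ideal.ofList (List.ofFn f') • (⊤ : Submodule A M)) = LinearMap.range Φ := by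
      refine le_antisymm (Submodule.smul_le.2 fun r hr x _ => ?_) ?_
      · induction hr using Submodule.span_induction with
        | mem r hr =>
          obtain ⟨i, rfl⟩ := List.mem_ofFn.1 hr
          exact ⟨Pi.single i x, hΦs i x⟩
        | zero => rw [zero_smul]; exact zero_mem _
        | add p q _ _ hp hq => rw [add_smul]; exact add_mem hp hq
        | smul c p _ hp => rw [smul_assoc]; exact Submodule.smul_mem _ c hp
      · rintro _ ⟨w, rfl⟩
        rw [hΦ]
        exact sum_mem fun i _ => Submodule.smul_mem_smul (Ideal.subset_span (List.mem_ofFn.2 ⟨i, rfl⟩)) Submodule.mem_top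
    change f (Fin.last n) • m ∈ Ideal.ofList (List.ofFn f') • (⊤ : Submodule A M) at hq
    show m ∈ Ideal.ofList (List.ofFn f') • (⊤ : Submodule A M)
    rw [hspan] at hq ⊢
    obtain ⟨u, hu⟩ := hq
    have hm0 : ∑ i, f i • (Fin.snoc (-u) m : Fin (n + 1) → M) i = 0 := by
      rw [hsum]
      simp only [Fin.snoc_castSucc, Fin.snoc_last]
      rw [show (fun k => (-u) k) = -u from rfl, map_neg, hu, neg_add_cancel]
    obtain ⟨w, -, hw'⟩ := key _ (h _ hm0)
    simp at hw'
    exact ⟨-w, by rw [map_neg]; exact hw'.symm⟩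

end Groth.Agent.SmallAlgLib
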