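import Mathlib
import Groth.Prelude.Def_W4bk5brsh7111920

/-! The connectedness dimension through irreducible components. -/

set_option autoImplicit false

universe u

open TopologicalSpace

namespace Groth.Agent.SmallAlgLib

variable {T : Type u} [TopologicalSpace T]

theorem krullDim_mono {s t : Set T} (h : s ⊆ t) : topologicalKrullDim s ≤ topologicalKrullDim t :=
  (Topology.IsEmbedding.inclusion h).isInducing.topologicalKrullDim_le

theorem isClosed_sUnion_components [NoetherianSpace T] {A : Set (Set T)} (hA : A ⊆ irreducibleComponents T) :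
    IsClosed (⋃₀ A) :=
  Set.sUnion_eq_biUnion ▸ (NoetherianSpace.finite_irreducibleComponents.subset hA).isClosed_biUnion
    fun Z hZ => isClosed_of_mem_irreducibleComponents Z (hA hZ)

theorem eq_components_of_sUnion [NoetherianSpace T] {A : Set (Set T)} (hA : A ⊆ irreducibleComponents T)
    (h : ⋃₀ A = Set.univ) : A = irreducibleComponents T :=
  hA.antisymm fun Z hZ => mem_of_subset_sUnion_irreducibleComponents Z hZ A
    (NoetherianSpace.finite_irreducibleComponents.subset hA) hA (h ▸ Set.subset_univ Z)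

/-- Two proper unions of components covering the space give a disconnecting closed set. -/
theorem connDim_le_of_pair [NoetherianSpace T] {A B : Set (Set T)} (hA : A ⊆ irreducibleComponents T)
    (hB : B ⊆ irreducibleComponents T) (hAn : A ≠ irreducibleComponents T) (hBn : B ≠ irreducibleComponents T)
    (hAB : A ∪ B = irreducibleComponents T) : LocCoh.connDim T ≤ topologicalKrullDim ↥(⋃₀ A ∩ ⋃₀ B) := by
  have ca := isClosed_sUnion_components hA
  have cb := isClosed_sUnion_components hB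
  refine iInf₂_le (⋃₀ A ∩ ⋃₀ B) ⟨ca.inter cb, fun hc => ?_⟩
  obtain ⟨x, hx⟩ := Set.nonempty_compl.2 fun h => hAn (eq_components_of_sUnion hA h)
  obtain ⟨y, hy⟩ := Set.nonempty_compl.2 fun h => hBn (eq_components_of_sUnion hB h)
  have hcov : ⋃₀ A ∪ ⋃₀ B = Set.univ := by rw [← Set.sUnion_union, hAB, sUnion_irreducibleComponents]
  obtain ⟨z, -, hz1, hz2⟩ := hc.isPreconnected _ _ ca.isOpen_compl cb.isOpen_compl
    (by rw [Set.compl_inter]) ⟨x, fun h => hx h.1, hx⟩ ⟨y, fun h => hy h.2, hy⟩
  exact (hcov.symm ▸ Set.mem_univ z : z ∈ ⋃₀ A ∪ ⋃₀ B).elim hz1 hz2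

theorem connDim_le_all : LocCoh.connDim T ≤ topologicalKrullDim (Set.univ : Set T) :=
  iInf₂_le (Set.univ : Set T) ⟨isClosed_univ, fun h => by simpa using h.nonempty⟩

theorem connDim_eq [NoetherianSpace T] [Nonempty T] : LocCoh.connDim T =
    ⨅ (A : Set (Set T)) (B : Set (Set T)) (_ : A ⊆ irreducibleComponents T ∧ B ⊆ irreducibleComponents T ∧
      A.Nonempty ∧ B.Nonempty ∧ A ∪ B = irreducibleComponents T), topologicalKrullDim ↥(⋃₀ A ∩ ⋃₀ B) := by
  refine le_antisymm (le_iInf₂ fun A B => le_iInf fun ⟨hA, hB, hAne, hBne, hAB⟩ => ?_) (le_iInf₂ fun Z hZ => ?_)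
  · have hsplit : ∀ (C : Set (Set T)), C ⊆ irreducibleComponents T → C.Nonempty → C ≠ irreducibleComponents T →
        LocCoh.connDim T ≤ topologicalKrullDim ↥(⋃₀ C) := by
      intro C hC hCne hCn
      refine (connDim_le_of_pair hC (Set.sdiff_subset (t := C)) hCn (fun h => ?_)
        (Set.union_sdiff_cancel hC)).trans (krullDim_mono Set.inter_subset_left)
      obtain ⟨c, hc⟩ := hCne
      exact (h.symm ▸ hC hc : c ∈ irreducibleComponents T \ C).2 hc
    by_cases hAn : A = irreducibleComponents T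
    · subst hAn
      rw [sUnion_irreducibleComponents, Set.univ_inter]
      by_cases hBn : B = irreducibleComponents T
      · rw [hBn, sUnion_irreducibleComponents]
        exact connDim_le_all
      · exact hsplit B hB hBne hBn
    · by_cases hBn : B = irreducibleComponents T
      · subst hBn
        rw [sUnion_irreducibleComponents, Set.inter_univ]
        exact hsplit A hA hAne hAn
      · exact connDim_le_of_pair hA hB hAn hBn hAB
  · obtain ⟨hZc, hZn⟩ := hZ
    rcases Set.eq_empty_or_nonempty Zᶜ with h | hne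
    · rw [Set.compl_empty_iff] at h
      obtain ⟨x⟩ := (inferInstance : Nonempty T)
      refine iInf₂_le_of_le (irreducibleComponents T) (irreducibleComponents T) (iInf_le_of_le
        ⟨le_rfl, le_rfl, ⟨_, irreducibleComponent_mem_irreducibleComponents x⟩,
          ⟨_, irreducibleComponent_mem_irreducibleComponents x⟩, Set.union_self _⟩ ?_)
      exact krullDim_mono (h ▸ Set.subset_univ _)
    have hnp : ¬ IsPreconnected Zᶜ := fun h => hZn ⟨hne, h⟩
    simp only [IsPreconnected, not_forall] at hnp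
    obtain ⟨u, v, hu, hv, hcov, ⟨x, hx⟩, ⟨y, hy⟩, hno⟩ := hnp
    have hdisj : ∀ C ∈ irreducibleComponents T, ¬ ((C ∩ (Zᶜ ∩ u)).Nonempty ∧ (C ∩ (Zᶜ ∩ v)).Nonempty) := by
      rintro C hC ⟨h1, h2⟩
      obtain ⟨w, -, ⟨hw, hwu⟩, -, hwv⟩ := hC.1.2 _ _ (hZc.isOpen_compl.inter hu) (hZc.isOpen_compl.inter hv) h1 h2
      exact hno ⟨w, hw, hwu, hwv⟩
    let A := {C ∈ irreducibleComponents T | ¬ (C ∩ (Zᶜ ∩ v)).Nonempty}
    let B := {C ∈ irreducibleComponents T | ¬ (C ∩ (Zᶜ ∩ u)).Nonempty}
    refine iInf₂_le_of_le A B (iInf_le_of_le ⟨fun C h => h.1, fun C h => h.1, ?_, ?_, ?_⟩ (krullDim_mono ?_))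
    · exact ⟨_, irreducibleComponent_mem_irreducibleComponents x,
        fun h => hdisj _ (irreducibleComponent_mem_irreducibleComponents x) ⟨⟨x, mem_irreducibleComponent, hx⟩, h⟩⟩
    · exact ⟨_, irreducibleComponent_mem_irreducibleComponents y,
        fun h => hdisj _ (irreducibleComponent_mem_irreducibleComponents y) ⟨h, ⟨y, mem_irreducibleComponent, hy⟩⟩⟩
    · refine Set.Subset.antisymm (Set.union_subset (fun C h => h.1) fun C h => h.1) fun C hC => ?_
      by_cases h : (C ∩ (Zᶜ ∩ v)).Nonempty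
      · exact Or.inr ⟨hC, fun h' => hdisj C hC ⟨h', h⟩⟩
      · exact Or.inl ⟨hC, h⟩
    · rintro z ⟨⟨C, hC, hzC⟩, ⟨D, hD, hzD⟩⟩
      by_contra hz
      rcases hcov hz with hzu | hzv
      · exact hD.2 ⟨z, hzD, hz, hzu⟩
      · exact hC.2 ⟨z, hzC, hz, hzv⟩

theorem dim_nonempty_ne_bot {s : Set T} (hs : IsIrreducible s) : topologicalKrullDim s ≠ ⊥ := by
  haveI : IrreducibleSpace s := @IrreducibleSpace.mk _ _ (Subtype.preirreducibleSpace hs.2) hs.1.to_subtype
  haveI : Nonempty (IrreducibleCloseds s) :=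
    ⟨⟨Set.univ, IrreducibleSpace.isIrreducible_univ s, isClosed_univ⟩⟩
  exact Order.krullDim_ne_bot_iff.2 inferInstance

end Groth.Agent.SmallAlgLib
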