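import Mathlib

/-! Primes between two given primes avoiding an element. -/

set_option autoImplicit false

universe u

namespace Groth.Agent.SmallAlgLib

/-- In a Noetherian domain, below a prime of height at least two there is a nonzero prime avoiding a given element. -/
theorem exists_prime_between (D : Type u) [CommRing D] [IsDomain D] [IsNoetherianRing D] (q : Ideal D) [q.IsPrime]
    (hq : 1 < q.height) (a : D) (ha : a ∈ q) (ha0 : a ≠ 0) : ∃ t : Ideal D, t.IsPrime ∧ t ≠ ⊥ ∧ t < q ∧ a ∉ t := by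
  classical
  have hfin := Ideal.finite_minimalPrimes_of_isNoetherianRing D (Ideal.span {a})
  have hne : ¬ (q : Set D) ⊆ ⋃ P ∈ (hfin.toFinset : Set (Ideal D)), (P : Set D) := by
    intro h
    rw [Ideal.subset_union_prime (⊥ : Ideal D) ⊥ fun P hP _ _ => ((Set.Finite.mem_toFinset _).1 hP).1.1] at h
    obtain ⟨P, hP, hqP⟩ := h
    rw [Set.Finite.mem_toFinset] at hP
    exact not_lt.2 ((Ideal.height_mono hqP).trans (Ideal.height_le_one_of_isPrincipal_of_mem_minimalPrimes _ _ hP)) hq
  obtain ⟨b, hbq, hb⟩ := Set.not_subset.1 hne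
  simp only [Set.mem_iUnion, Finset.mem_coe, Set.Finite.mem_toFinset, SetLike.mem_coe, not_exists] at hb
  obtain ⟨t, ht, htq⟩ := Ideal.exists_minimalPrimes_le (I := Ideal.span {b}) (J := q)
    ((Ideal.span_singleton_le_iff_mem _).2 hbq)
  haveI := ht.1.1
  have hb0 : b ≠ 0 := by
    rintro rfl
    obtain ⟨P, hP, -⟩ := Ideal.exists_minimalPrimes_le (I := Ideal.span {a}) (J := q) ((Ideal.span_singleton_le_iff_mem _).2 ha)
    exact hb P hP (zero_mem _)
  have hbt : b ∈ t := ht.1.2 (Ideal.subset_span rfl)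
  have ht1 : t.height ≤ 1 := Ideal.height_le_one_of_isPrincipal_of_mem_minimalPrimes _ _ ht
  refine ⟨t, inferInstance, fun h => hb0 ((Submodule.mem_bot D).1 (h ▸ hbt)),
    lt_of_le_of_ne htq fun h => not_lt.2 ht1 (h ▸ hq), fun hat => ?_⟩
  obtain ⟨P, hP, hPt⟩ := Ideal.exists_minimalPrimes_le (I := Ideal.span {a}) (J := t) ((Ideal.span_singleton_le_iff_mem _).2 hat)
  haveI := hP.1.1
  rcases eq_or_lt_of_le hPt with rfl | hlt
  · exact hb P hP hbt
  · have haP : a ∈ P := hP.1.2 (Ideal.subset_span rfl)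
    have h0 := (Ideal.height_strict_mono_of_isPrime_of_isPrime hlt).trans_le ht1
    rw [Order.lt_one_iff, Ideal.height_eq_zero_iff] at h0
    rw [IsDomain.minimalPrimes_eq_singleton_bot, Set.mem_singleton_iff] at h0
    exact ha0 ((Submodule.mem_bot D).1 (h0 ▸ haP))

/-- The relative form. -/
theorem exists_prime_between' (R : Type u) [CommRing R] [IsNoetherianRing R] (s q : Ideal R) [s.IsPrime] [q.IsPrime]
    (hsq : s ≤ q) (hht : 1 < (q.map (Ideal.Quotient.mk s)).height) (a : R) (haq : a ∈ q) (has : a ∉ s) :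
    ∃ t : Ideal R, t.IsPrime ∧ s < t ∧ t < q ∧ a ∉ t := by
  have hc : (q.map (Ideal.Quotient.mk s)).comap (Ideal.Quotient.mk s) = q := by
    rw [Ideal.comap_map_of_surjective _ Ideal.Quotient.mk_surjective, ← RingHom.ker_eq_comap_bot, Ideal.mk_ker, sup_eq_left]
    exact hsq
  haveI : (q.map (Ideal.Quotient.mk s)).IsPrime :=
    Ideal.map_isPrime_of_surjective Ideal.Quotient.mk_surjective (by rwa [Ideal.mk_ker])
  obtain ⟨t, ht, ht0, htq, hat⟩ := exists_prime_between (R ⧸ s) _ hht _ (Ideal.mem_map_of_mem (Ideal.Quotient.mk s) haq)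
    (fun h => has (Ideal.Quotient.eq_zero_iff_mem.1 h))
  have hle : s ≤ t.comap (Ideal.Quotient.mk s) := fun x hx => by simp [Ideal.Quotient.eq_zero_iff_mem.2 hx]
  refine ⟨t.comap (Ideal.Quotient.mk s), inferInstance, lt_of_le_of_ne hle fun h => ht0 ?_, ?_, hat⟩
  · rw [← Ideal.map_comap_of_surjective _ Ideal.Quotient.mk_surjective t, ← h, Ideal.map_quotient_self]
  · refine lt_of_le_of_ne ((Ideal.comap_mono htq.le).trans_eq hc) fun h => htq.ne ?_
    rw [← Ideal.map_comap_of_surjective _ Ideal.Quotient.mk_surjective t, h]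

end Groth.Agent.SmallAlgLib
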