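import Mathlib
import Groth.Agent.Depth.Basic

/-! Depth with respect to an ideal through Ext, including the case `IM = M`. -/

set_option autoImplicit false

universe u

open CategoryTheory Abelian RingTheory.Sequence

namespace Groth.Agent.SmallAlgLib

variable {R : Type u} [CommRing R] [IsNoetherianRing R] (I : Ideal R)

theorem subsingleton_ext_of_smul_top_eq {M : Type u} [AddCommGroup M] [Module R M] [Module.Finite R M]
    (h : I • (⊤ : Submodule R M) = ⊤) (X : ModuleCat.{u} R) (hX : ∀ a ∈ I, ∀ x : X, a • x = 0) (i : ℕ) :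
    Subsingleton (Ext X (ModuleCat.of R M) i) := by
  obtain ⟨r, hr, hr0⟩ := Submodule.exists_sub_one_mem_and_smul_eq_zero_of_fg_of_le_smul I (⊤ : Submodule R M)
    Module.Finite.fg_top h.ge
  refine ⟨fun e e' => sub_eq_zero.1 ?_⟩
  generalize e - e' = d
  have h1 : (r - 1) • d = 0 := by
    rw [← Ext.mk₀_id_comp d, ← Ext.smul_comp, ← Ext.mk₀_smul,
      show (r - 1) • 𝟙 X = 0 from ModuleCat.hom_ext (LinearMap.ext fun x => hX _ hr x), Ext.mk₀_zero, Ext.zero_comp]
  have h2 : r • d = 0 := by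
    rw [← Ext.comp_mk₀_id d, ← Ext.comp_smul, ← Ext.mk₀_smul,
      show r • 𝟙 (ModuleCat.of R M) = 0 from ModuleCat.hom_ext (LinearMap.ext fun x => hr0 x trivial), Ext.mk₀_zero, Ext.comp_zero]
  rw [sub_smul, one_smul, h2, zero_sub, neg_eq_zero] at h1
  exact h1

/-- `depth_I M ≥ n` iff `Ext^i(R/I, M)` vanishes below `n`. -/
theorem le_idealDepth_iff_ext (M : Type u) [AddCommGroup M] [Module R M] [Module.Finite R M] (n : ℕ) :
    (n : ℕ∞) ≤ LocCoh.idealDepth I M ↔
      ∀ i < n, Subsingleton (Ext (ModuleCat.of R (Shrink.{u} (R ⧸ I))) (ModuleCat.of R M) i) := by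
  by_cases hI : I • (⊤ : Submodule R M) = ⊤
  · rw [LocCoh.idealDepth, if_pos hI]
    refine iff_of_true le_top fun i _ => subsingleton_ext_of_smul_top_eq I hI _ (fun a ha x => ?_) i
    apply (Shrink.linearEquiv R (R ⧸ I)).injective
    rw [map_smul, map_zero]
    obtain ⟨y, hy⟩ := Ideal.Quotient.mk_surjective (Shrink.linearEquiv R (R ⧸ I) x)
    rw [← hy, Algebra.smul_def, Ideal.Quotient.algebraMap_eq, ← map_mul]
    exact Ideal.Quotient.eq_zero_iff_mem.2 (Ideal.mul_mem_right _ _ ha)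
  · rw [Depth.le_idealDepth_iff hI,
      ((ModuleCat.exists_isRegular_tfae I n (ModuleCat.of R M) (Ne.lt_top hI)).out 1 3 rfl rfl)]
    exact ⟨fun ⟨rs, h1, h2, h3⟩ => ⟨rs, h1, h2, Depth.isRegular_of_isWeaklyRegular hI h3 h2⟩,
      fun ⟨rs, h1, h2, h3⟩ => ⟨rs, h1, h2, h3.1⟩⟩

end Groth.Agent.SmallAlgLib
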