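import Mathlib

/-! Graded algebras with finitely many homogeneous generators. -/

set_option autoImplicit false

open DirectSum

namespace Groth.Agent.SmallAlgLib.GradedGen

universe u v

variable {R : Type u} {A : Type v} [CommRing R] [CommRing A] [Algebra R A] (𝒜 : ℕ → Submodule R A) [GradedAlgebra 𝒜]
variable {s : ℕ} (f : Fin s → A) (deg : Fin s → ℕ) (hdeg : ∀ i, 0 < deg i) (hf : ∀ i, f i ∈ 𝒜 (deg i))
variable (hgen : Algebra.adjoin R (Set.range f) = ⊤)

include hf

theorem monomial_mem (e : Fin s → ℕ) : ∏ i, f i ^ e i ∈ 𝒜 (∑ i, e i * deg i) :=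
  SetLike.prod_mem_graded 𝒜 (fun i => e i * deg i) (fun i => f i ^ e i)
    fun i _ => by simpa using SetLike.pow_mem_graded (e i) (hf i)

include hgen

theorem eq_span (N : ℕ) :
    𝒜 N = Submodule.span R {x | ∃ e : Fin s → ℕ, ∑ i, e i * deg i = N ∧ x = ∏ i, f i ^ e i} := by
  refine le_antisymm (fun a ha => ?_) (Submodule.span_le.2 ?_)
  · have key : ∀ x : A, (decompose 𝒜 x N : A) ∈
        Submodule.span R {x | ∃ e : Fin s → ℕ, ∑ i, e i * deg i = N ∧ x = ∏ i, f i ^ e i} := fun x => by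
      obtain ⟨P, rfl⟩ : ∃ P : MvPolynomial (Fin s) R, MvPolynomial.aeval f P = x := by
        have : x ∈ Algebra.adjoin R (Set.range f) := hgen ▸ Algebra.mem_top
        rw [Algebra.adjoin_range_eq_range_aeval] at this
        exact this
      induction P using MvPolynomial.induction_on' with
      | monomial e r =>
        have he : MvPolynomial.aeval f (MvPolynomial.monomial e r) = r • ∏ i, f i ^ e i := by
          rw [MvPolynomial.aeval_monomial, Algebra.smul_def, Finsupp.prod_fintype _ _ fun i => pow_zero _]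
        have hm : r • ∏ i, f i ^ e i ∈ 𝒜 (∑ i, e i * deg i) := Submodule.smul_mem _ _ (monomial_mem 𝒜 f deg hf e)
        rw [he]
        by_cases h : ∑ i, e i * deg i = N
        · rw [decompose_of_mem_same 𝒜 (h ▸ hm)]
          exact Submodule.smul_mem _ _ (Submodule.subset_span ⟨e, h, rfl⟩)
        · rw [decompose_of_mem_ne 𝒜 hm h]
          exact zero_mem _
      | add p q hp hq =>
        rw [map_add, decompose_add, DirectSum.add_apply, Submodule.coe_add]
        exact add_mem hp hq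
    rw [← decompose_of_mem_same 𝒜 ha]
    exact key a
  · rintro _ ⟨e, rfl, rfl⟩
    exact monomial_mem 𝒜 f deg hf e

include hdeg

theorem eq_zero_one : 𝒜 0 = 1 := by
  rw [eq_span 𝒜 f deg hf hgen 0, Submodule.one_eq_span]
  congr 1
  ext x
  constructor
  · rintro ⟨e, he, rfl⟩
    have h0 : ∀ i, e i = 0 := fun i => by
      have := (Finset.sum_eq_zero_iff.1 he) i (Finset.mem_univ i)
      rcases Nat.mul_eq_zero.1 this with h | h
      · exact h
      · exact absurd h (hdeg i).ne'
    simp [h0]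
  · rintro rfl
    exact ⟨0, by simp, by simp⟩

theorem step (n : ℕ) (hn : (s - 1) * (Finset.univ.lcm deg - 1) ≤ n) :
    𝒜 (n + Finset.univ.lcm deg) = 𝒜 n * 𝒜 (Finset.univ.lcm deg) := by
  set l := Finset.univ.lcm deg
  have hl : 0 < l := Nat.pos_of_ne_zero fun h => by
    obtain ⟨i, -, hi⟩ := Finset.lcm_eq_zero_iff.1 h
    exact (hdeg i).ne' hi
  refine le_antisymm ?_ (Submodule.mul_le.2 fun a ha b hb => SetLike.mul_mem_graded ha hb)
  rw [eq_span 𝒜 f deg hf hgen (n + l), Submodule.span_le]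
  rintro _ ⟨e, he, rfl⟩
  obtain ⟨i, hi⟩ : ∃ i, l ≤ e i * deg i := by
    by_contra h
    push Not at h
    have h1 : ∑ i, e i * deg i ≤ s * (l - 1) := by
      refine (Finset.sum_le_card_nsmul _ _ (l - 1) fun i _ => Nat.le_sub_one_of_lt (h i)).trans ?_
      simp
    rw [he] at h1
    rcases Nat.eq_zero_or_pos s with rfl | hs
    · simp at h1; omega
    · obtain ⟨t, rfl⟩ : ∃ t, s = t + 1 := ⟨s - 1, by omega⟩
      rw [Nat.add_sub_cancel] at hn
      rw [Nat.succ_mul] at h1
      omega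
  obtain ⟨q, hq⟩ : deg i ∣ l := Finset.dvd_lcm (Finset.mem_univ i)
  have hqe : q ≤ e i := Nat.le_of_mul_le_mul_left (by rw [← hq, mul_comm]; exact hi) (hdeg i)
  let e' : Fin s → ℕ := Function.update e i (e i - q)
  have hsplit : ∀ j, e j = e' j + Function.update (0 : Fin s → ℕ) i q j := fun j => by
    by_cases h : j = i
    · subst h; simp [e']; omega
    · simp [e', h]
  have hw : ∑ j, Function.update (0 : Fin s → ℕ) i q j * deg j = l := by
    rw [Finset.sum_eq_single i (fun j _ h => by simp [h]) (by simp), Function.update_self, hq, mul_comm]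
  have hprod : ∏ j, f j ^ e j = (∏ j, f j ^ e' j) * ∏ j, f j ^ Function.update (0 : Fin s → ℕ) i q j := by
    rw [← Finset.prod_mul_distrib]
    exact Finset.prod_congr rfl fun j _ => by rw [← pow_add, ← hsplit]
  rw [SetLike.mem_coe, hprod]
  refine Submodule.mul_mem_mul ?_ (hw ▸ monomial_mem 𝒜 f deg hf _)
  have hn' : ∑ j, e' j * deg j = n := by
    have : ∑ j, e j * deg j = ∑ j, e' j * deg j + l := by
      rw [← hw, ← Finset.sum_add_distrib]
      exact Finset.sum_congr rfl fun j _ => by rw [← add_mul, ← hsplit]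
    omega
  exact hn' ▸ monomial_mem 𝒜 f deg hf e'

theorem pow_eq (a : ℕ) (ha : s - 1 ≤ a) (k : ℕ) :
    𝒜 (k * (a * Finset.univ.lcm deg)) = 𝒜 (a * Finset.univ.lcm deg) ^ k := by
  set l := Finset.univ.lcm deg with hldef
  have hiter : ∀ m, (s - 1) * (l - 1) ≤ m → ∀ j, 𝒜 (m + j * l) ≤ 𝒜 m * 𝒜 (j * l) := by
    intro m hm j
    induction j with
    | zero => rw [zero_mul, add_zero, eq_zero_one 𝒜 f deg hdeg hf hgen, mul_one]
    | succ j ih =>
      rw [add_mul, one_mul, ← add_assoc, step 𝒜 f deg hdeg hf hgen _ (hm.trans (Nat.le_add_right _ _)), ← hldef]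
      refine (mul_le_mul' ih le_rfl).trans ?_
      rw [mul_assoc]
      exact mul_le_mul' le_rfl (Submodule.mul_le.2 fun x hx y hy => SetLike.mul_mem_graded hx hy)
  induction k with
  | zero => rw [zero_mul, pow_zero, eq_zero_one 𝒜 f deg hdeg hf hgen]
  | succ k ih =>
    rw [pow_succ, ← ih]
    refine le_antisymm ?_ (Submodule.mul_le.2 fun x hx y hy => ?_)
    · rcases Nat.eq_zero_or_pos k with rfl | hk
      · rw [zero_add, one_mul, zero_mul, eq_zero_one 𝒜 f deg hdeg hf hgen, one_mul]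
      · rw [add_mul, one_mul]
        refine hiter _ ?_ a
        calc (s - 1) * (l - 1) ≤ a * l := Nat.mul_le_mul ha (Nat.sub_le _ _)
          _ ≤ k * (a * l) := Nat.le_mul_of_pos_left _ hk
    · rw [add_mul, one_mul]
      exact SetLike.mul_mem_graded hx hy

theorem iSup_basicOpen (a : ℕ) (ha : 0 < a) :
    (⨆ g : 𝒜 (a * Finset.univ.lcm deg), AlgebraicGeometry.Proj.basicOpen 𝒜 (g : A)) = ⊤ := by
  refine eq_top_iff.2 fun x _ => TopologicalSpace.Opens.mem_iSup.2 ?_
  obtain ⟨i, hi⟩ : ∃ i, f i ∉ x.asHomogeneousIdeal := by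
    by_contra h
    push Not at h
    refine x.not_irrelevant_le ((HomogeneousIdeal.irrelevant_le _).mpr fun N hN y hy => ?_)
    suffices hle : 𝒜 N ≤ (x.asHomogeneousIdeal.toIdeal).restrictScalars R from hle hy
    rw [eq_span 𝒜 f deg hf hgen N, Submodule.span_le]
    rintro _ ⟨e, he, rfl⟩
    obtain ⟨j, -, hj⟩ := Finset.exists_ne_zero_of_sum_ne_zero (he.trans_ne hN.ne')
    rw [← Finset.mul_prod_erase _ _ (Finset.mem_univ j)]
    exact Ideal.mul_mem_right _ _ (Ideal.pow_mem_of_mem _ (h j) _ (Nat.pos_of_ne_zero fun h0 => hj (by rw [h0, zero_mul])))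
  obtain ⟨q, hq⟩ : deg i ∣ Finset.univ.lcm deg := Finset.dvd_lcm (Finset.mem_univ i)
  have hl : 0 < Finset.univ.lcm deg := Nat.pos_of_ne_zero fun h => by
    obtain ⟨i, -, hi⟩ := Finset.lcm_eq_zero_iff.1 h
    exact (hdeg i).ne' hi
  refine ⟨⟨f i ^ (a * q), ?_⟩, ?_⟩
  · rw [hq, show a * (deg i * q) = (a * q) * deg i by ring]
    simpa using SetLike.pow_mem_graded (a * q) (hf i)
  · show f i ^ (a * q) ∉ x.asHomogeneousIdeal
    exact fun hmem => hi (x.isPrime.mem_of_pow_mem _ hmem)

end Groth.Agent.SmallAlgLib.GradedGen
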