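import Mathlib

/-! Numerical semigroups and their modules. -/

set_option autoImplicit false

namespace Groth.Agent.SmallAlgLib.NumSgp

variable (Γ : AddSubmonoid ℕ) (c : ℕ) (hc : ∀ n : ℕ, c ≤ n → n ∈ Γ) (hc0 : c ≠ 0) (hc1 : c - 1 ∉ Γ)

include hc hc0 hc1

theorem lt_of_notMem {n : ℕ} (h : n ∉ Γ) : n < c := lt_of_not_ge fun h' => h (hc n h')

/-- In a symmetric semigroup of multiplicity `e ≥ 3`, an element with the gap `e` below it either is
`c + e - 1`, or is smaller and has its complement in `Γ`. -/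
theorem exists_split (hsymm : ∀ x : ℕ, x < c → (x ∉ Γ ↔ c - 1 - x ∈ Γ)) (e : ℕ) (he : e ∈ Γ)
    (hemin : ∀ γ : ℕ, γ ∈ Γ → γ ≠ 0 → e ≤ γ) (he2 : 2 < e) :
    ∃ a b, a ∈ Γ ∧ b ∈ Γ ∧ a ≠ 0 ∧ b ≠ 0 ∧ a + b = c - 1 + e := by
  classical
  obtain ⟨x, hx0, hxe, hxr⟩ : ∃ x, 0 < x ∧ x < e ∧ x ≠ (c - 1) % e := by
    by_cases h : (c - 1) % e = 1
    · exact ⟨2, by omega, he2, by omega⟩
    · exact ⟨1, by omega, by omega, fun h' => h h'.symm⟩
  have hex : ∃ k, x + k * e ∈ Γ := ⟨c, hc _ (le_add_left (Nat.le_mul_of_pos_right c (by omega)))⟩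
  have hk := Nat.find_spec hex
  have hk0 : Nat.find hex ≠ 0 := fun h => by
    rw [h, zero_mul, add_zero] at hk
    exact absurd (hemin x hk (by omega)) (by omega)
  obtain ⟨k, hkk⟩ := Nat.exists_eq_succ_of_ne_zero hk0
  rw [hkk] at hk
  have hgap : x + k * e ∉ Γ := Nat.find_min hex (by omega)
  have hlt := lt_of_notMem Γ c hc hc0 hc1 hgap
  have hne : c - 1 - (x + k * e) ≠ 0 := fun h => hxr (by
    rw [show c - 1 = x + k * e by omega, Nat.add_mul_mod_self_right, Nat.mod_eq_of_lt hxe])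
  refine ⟨x + (k + 1) * e, c - 1 - (x + k * e), hk, (hsymm _ hlt).1 hgap, by positivity, hne, ?_⟩
  rw [add_mul, one_mul]
  omega

/-- The Apéry-type generators. -/
theorem mem_or_eq_or_top (hsymm : ∀ x : ℕ, x < c → (x ∉ Γ ↔ c - 1 - x ∈ Γ)) (e : ℕ) (he : e ∈ Γ)
    (hemin : ∀ γ : ℕ, γ ∈ Γ → γ ≠ 0 → e ≤ γ) {n : ℕ} (hn : n ∈ Γ) (hn0 : n ≠ 0) :
    (n - e ∈ Γ ∧ e ≤ n) ∨ (n - e ∉ Γ ∧ n - e < c ∧ (n < c ∨ n = c - 1 + e)) := by
  have hen := hemin n hn hn0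
  by_cases h : n - e ∈ Γ
  · exact Or.inl ⟨h, hen⟩
  · have h1 := lt_of_notMem Γ c hc hc0 hc1 h
    refine Or.inr ⟨h, h1, ?_⟩
    by_contra h'
    push Not at h'
    have h2 := (hsymm _ h1).1 h
    rcases eq_or_ne (c - 1 - (n - e)) 0 with h3 | h3
    · omega
    · have := hemin _ h2 h3
      omega

theorem closure_below (hsymm : ∀ x : ℕ, x < c → (x ∉ Γ ↔ c - 1 - x ∈ Γ)) (he12 : (1 : ℕ) ∉ Γ ∧ (2 : ℕ) ∉ Γ) :
    AddSubmonoid.closure {γ : ℕ | γ ∈ Γ ∧ γ < c} = Γ := by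
  classical
  refine le_antisymm (AddSubmonoid.closure_le.2 fun γ hγ => hγ.1) fun n hn => ?_
  have hex : ∃ e, e ∈ Γ ∧ e ≠ 0 := ⟨c, hc c le_rfl, hc0⟩
  obtain ⟨he, he0⟩ := Nat.find_spec hex
  have hemin : ∀ γ : ℕ, γ ∈ Γ → γ ≠ 0 → Nat.find hex ≤ γ := fun γ h1 h2 => Nat.find_le ⟨h1, h2⟩
  generalize Nat.find hex = e at he he0 hemin
  have he2 : 2 < e := by
    rcases Nat.lt_or_ge 2 e with h | h
    · exact h
    · interval_cases e
      · exact absurd rfl he0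
      · exact absurd he he12.1
      · exact absurd he he12.2
  induction n using Nat.strong_induction_on with
  | _ n ih =>
    by_cases hlt : n < c
    · exact AddSubmonoid.subset_closure ⟨hn, hlt⟩
    obtain ⟨a, b, ha, hb, ha0, hb0, hab⟩ : ∃ a b, a ∈ Γ ∧ b ∈ Γ ∧ a ≠ 0 ∧ b ≠ 0 ∧ a + b = n := by
      rcases mem_or_eq_or_top Γ c hc hc0 hc1 hsymm e he hemin hn (by omega) with ⟨h, hen⟩ | ⟨h, -, h'⟩
      · by_cases h0 : n - e = 0
        · have hn_e : n = e := by omega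
          subst hn_e
          have h2 : c ≠ 1 := fun h => hlt (by have := hc 1 (by omega); exact absurd this he12.1)
          obtain ⟨a, b, ha, hb, ha0, hb0, hab⟩ := exists_split Γ c hc hc0 hc1 hsymm n he hemin he2
          have := hemin a ha ha0
          have := hemin b hb hb0
          have h3 : c - 2 ∈ Γ := by
            have := (hsymm 1 (by omega)).1 he12.1
            rwa [show c - 1 - 1 = c - 2 by omega] at this
          have h4 : c ≠ 2 := fun h => he12.2 (hc 2 (by omega))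
          have := hemin _ h3 (by omega)
          omega
        · exact ⟨n - e, e, h, he, h0, he0, by omega⟩
      · obtain rfl : n = c - 1 + e := h'.resolve_left hlt
        exact exists_split Γ c hc hc0 hc1 hsymm e he hemin he2
    rw [← hab]
    exact AddSubmonoid.add_mem _ (ih a (by omega) ha) (ih b (by omega) hb)

theorem exists_generators (hsymm : ∀ x : ℕ, x < c → (x ∉ Γ ↔ c - 1 - x ∈ Γ)) (e : ℕ) (he : e ∈ Γ)
    (hemin : ∀ γ : ℕ, γ ∈ Γ → γ ≠ 0 → e ≤ γ) (he2 : 2 < e) :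
    ∃ G : Finset ℕ, G.card ≤ e - 1 ∧ AddSubmonoid.closure (↑G : Set ℕ) = Γ := by
  classical
  let B := (Finset.range (c - 1 + e)).filter fun γ => γ ∈ Γ ∧ γ ≠ 0 ∧ γ - e ∉ Γ
  have hB : ∀ γ ∈ B, γ % e ∈ (Finset.Ico 1 e).erase ((c - 1) % e) := by
    intro γ hγ
    simp only [B, Finset.mem_filter, Finset.mem_range] at hγ
    obtain ⟨hlt, hΓ, h0, hgap⟩ := hγ
    have h1 := hemin γ hΓ h0
    have hne : ∀ m, m ∈ Γ → ∀ k, γ - e ≠ m + k * e := fun m hm k h => hgap (by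
      rw [h]; exact Γ.add_mem hm (by simpa using Γ.nsmul_mem he k))
    have hd := Nat.div_add_mod γ e
    have hq : 1 ≤ γ / e := Nat.div_pos h1 (by omega)
    rw [Finset.mem_erase, Finset.mem_Ico]
    refine ⟨fun hr => ?_, Nat.pos_of_ne_zero fun h => hne 0 Γ.zero_mem (γ / e - 1) ?_, Nat.mod_lt _ (by omega)⟩
    · have hgc := lt_of_notMem Γ c hc hc0 hc1 hgap
      have h2 := (hsymm _ hgc).1 hgap
      have hd' := Nat.div_add_mod (c - 1) e
      have hqq : γ / e ≤ (c - 1) / e + 1 := by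
        by_contra h
        have := Nat.mul_le_mul_left e (by omega : (c - 1) / e + 2 ≤ γ / e)
        rw [mul_add] at this
        omega
      rcases eq_or_lt_of_le hqq with h | h
      · rw [h, mul_add] at hd
        omega
      · refine hc1 ?_
        have : c - 1 = γ + ((c - 1) / e - γ / e) * e := by
          have := Nat.mul_le_mul_left e (by omega : γ / e ≤ (c - 1) / e)
          rw [Nat.sub_mul, mul_comm _ e, mul_comm _ e]
          omega
        rw [this]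
        exact Γ.add_mem hΓ (by simpa using Γ.nsmul_mem he _)
    · rw [zero_add, Nat.sub_mul, one_mul, mul_comm]
      omega
  refine ⟨insert e B, ?_, le_antisymm (AddSubmonoid.closure_le.2 fun γ hγ => ?_) fun n hn => ?_⟩
  · refine (Finset.card_insert_le _ _).trans ?_
    have hinj : Set.InjOn (· % e) (B : Set ℕ) := by
      suffices ∀ a ∈ B, ∀ b ∈ B, a < b → a % e ≠ b % e by
        intro a ha b hb hab
        rcases lt_trichotomy a b with h | h | h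
        · exact absurd hab (this a ha b hb h)
        · exact h
        · exact absurd (Eq.symm hab) (this b hb a ha h)
      intro a ha b hb hlt hmod
      simp only [B, Finset.mem_filter] at ha hb
      obtain ⟨k, hk⟩ := (Nat.modEq_iff_dvd' hlt.le).1 hmod
      refine hb.2.2.2 ?_
      obtain ⟨j, rfl⟩ : ∃ j, k = j + 1 := ⟨k - 1, by rcases k with _ | k <;> simp at hk ⊢; omega⟩
      rw [show b - e = a + j * e by rw [mul_add, mul_one, mul_comm] at hk; omega]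
      exact Γ.add_mem ha.2.1 (by simpa using Γ.nsmul_mem he j)
    have := Finset.card_le_card_of_injOn (· % e) (fun a ha => hB a ha) hinj
    have hr : ((Finset.Ico 1 e).erase ((c - 1) % e)).card ≤ e - 2 := by
      by_cases h : (c - 1) % e = 0
      · exfalso
        refine hc1 ?_
        rw [← Nat.div_add_mod (c - 1) e, h, add_zero]
        simpa [mul_comm] using Γ.nsmul_mem he ((c - 1) / e)
      · rw [Finset.card_erase_of_mem (Finset.mem_Ico.2 ⟨by omega, Nat.mod_lt _ (by omega)⟩), Nat.card_Ico]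
        omega
    omega
  · rcases Finset.mem_insert.1 (Finset.mem_coe.1 hγ) with rfl | h
    · exact he
    · exact (Finset.mem_filter.1 h).2.1
  · induction n using Nat.strong_induction_on with
    | _ n ih =>
      rcases eq_or_ne n 0 with rfl | hn0
      · exact zero_mem _
      rcases mem_or_eq_or_top Γ c hc hc0 hc1 hsymm e he hemin hn hn0 with ⟨h, hen⟩ | ⟨h, -, h'⟩
      · rw [show n = e + (n - e) by omega]
        exact add_mem (AddSubmonoid.subset_closure (by simp)) (ih _ (by omega) h)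
      · by_cases ht : n < c - 1 + e
        · exact AddSubmonoid.subset_closure (Finset.mem_coe.2 (Finset.mem_insert_of_mem
            (Finset.mem_filter.2 ⟨Finset.mem_range.2 ht, hn, hn0, h⟩)))
        · obtain rfl : n = c - 1 + e := by omega
          obtain ⟨a, b, ha, hb, ha0, hb0, hab⟩ := exists_split Γ c hc hc0 hc1 hsymm e he hemin he2
          rw [← hab]
          exact add_mem (ih a (by omega) ha) (ih b (by omega) hb)

theorem symmetric_iff : (∀ x : ℕ, x < c → (x ∉ Γ ↔ c - 1 - x ∈ Γ)) ↔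
    ∃! n : ℕ, n ∉ Γ ∧ ∀ γ : ℕ, γ ∈ Γ → γ ≠ 0 → n + γ ∈ Γ := by
  have htop : c - 1 ∉ Γ ∧ ∀ γ : ℕ, γ ∈ Γ → γ ≠ 0 → c - 1 + γ ∈ Γ := ⟨hc1, fun γ _ h => hc _ (by omega)⟩
  constructor
  · refine fun hs => ⟨c - 1, htop, fun n ⟨hn, hn'⟩ => ?_⟩
    have h1 := lt_of_notMem Γ c hc hc0 hc1 hn
    by_contra hne
    refine hc1 ?_
    rw [show c - 1 = n + (c - 1 - n) by omega]
    exact hn' _ ((hs n h1).1 hn) (by omega)
  · rintro ⟨m, -, huniq⟩ x hx
    have huniq' : ∀ y, (y ∉ Γ ∧ ∀ γ : ℕ, γ ∈ Γ → γ ≠ 0 → y + γ ∈ Γ) → y = c - 1 := fun y hy =>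
      (huniq y hy).trans (huniq _ htop).symm
    refine ⟨fun hxg => ?_, fun h hxm => hc1 ?_⟩
    · have key : ∀ k, ∀ y, c - y = k → y ∉ Γ → x ≤ y → y - x ∈ Γ → c - 1 - x ∈ Γ := by
        intro k
        induction k using Nat.strong_induction_on with
        | _ k ih =>
          intro y hk hy hxy hyx
          by_cases hall : ∀ γ : ℕ, γ ∈ Γ → γ ≠ 0 → y + γ ∈ Γ
          · rwa [← huniq' y ⟨hy, hall⟩]
          · push Not at hall
            obtain ⟨γ, hγ, hγ0, hyγ⟩ := hall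
            have := lt_of_notMem Γ c hc hc0 hc1 hyγ
            exact ih (c - (y + γ)) (by omega) (y + γ) rfl hyγ (by omega)
              (by rw [show y + γ - x = y - x + γ by omega]; exact Γ.add_mem hyx hγ)
      exact key _ x rfl hxg le_rfl (by simp)
    · rw [show c - 1 = x + (c - 1 - x) by omega]
      exact Γ.add_mem hxm h

theorem all_supersets_iff : (∀ S : Set ℕ, (↑Γ : Set ℕ) ⊆ S → ∀ γ : ℕ, γ ∈ Γ → ∀ s : ℕ, s ∈ S → γ + s ∈ S) ↔
    ∀ γ : ℕ, γ ∈ Γ → γ ≠ 0 → c ≤ γ := by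
  refine ⟨fun h γ hγ hγ0 => ?_, fun h S hS γ hγ s hs => ?_⟩
  · by_contra hlt
    have := h (insert (c - 1 - γ) (↑Γ : Set ℕ)) (Set.subset_insert _ _) γ hγ _ (Set.mem_insert _ _)
    rw [show γ + (c - 1 - γ) = c - 1 by omega] at this
    rcases this with h1 | h1
    · omega
    · exact hc1 h1
  · rcases eq_or_ne γ 0 with rfl | h0
    · simpa using hs
    · exact hS (hc _ (le_trans (h γ hγ h0) (Nat.le_add_right _ _)))

omit hc hc0 hc1

/-- At most `e - 1` elements can be pairwise incongruent and nonzero modulo `e`. -/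
theorem encard_le (e : ℕ) (he0 : e ≠ 0) (A : Set ℕ) (h0 : ∀ a ∈ A, a % e ≠ 0)
    (hinj : ∀ a ∈ A, ∀ b ∈ A, a < b → a % e ≠ b % e) : A.encard ≤ ((e - 1 : ℕ) : ℕ∞) := by
  have hinj' : Set.InjOn (· % e) A := by
    intro a ha b hb hab
    rcases lt_trichotomy a b with h | h | h
    · exact absurd hab (hinj a ha b hb h)
    · exact h
    · exact absurd (Eq.symm hab) (hinj b hb a ha h)
  rw [← hinj'.encard_image]
  refine (Set.encard_le_encard (t := (↑(Finset.Ico 1 e) : Set ℕ)) ?_).trans ?_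
  · rintro _ ⟨a, ha, rfl⟩
    simpa using ⟨Nat.pos_of_ne_zero (h0 a ha), Nat.mod_lt a (Nat.pos_of_ne_zero he0)⟩
  · rw [Set.encard_coe_eq_coe_finsetCard, Nat.card_Ico]

theorem mul_mem {e : ℕ} (he : e ∈ Γ) (k : ℕ) : e * k ∈ Γ := by
  simpa [mul_comm] using Γ.nsmul_mem he k

theorem card_edges (e : ℕ) (he : e ∈ Γ) (he0 : e ≠ 0) (S : Set ℕ) (hS0 : (0 : ℕ) ∈ S)
    (hS : ∀ γ : ℕ, γ ∈ Γ → ∀ s : ℕ, s ∈ S → γ + s ∈ S) :
    {n : ℕ | n ∉ S ∧ ∀ γ : ℕ, γ ∈ Γ → γ ≠ 0 → n + γ ∈ S}.encard ≤ ((e - 1 : ℕ) : ℕ∞) ∧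
    {s : ℕ | s ∈ S ∧ s ≠ 0 ∧ ∀ γ : ℕ, γ ∈ Γ → γ ≠ 0 → γ ≤ s → s - γ ∉ S}.encard ≤ ((e - 1 : ℕ) : ℕ∞) := by
  refine ⟨encard_le e he0 _ ?_ ?_, encard_le e he0 _ ?_ ?_⟩
  · rintro n ⟨hn, -⟩ h
    obtain ⟨k, rfl⟩ := Nat.dvd_of_mod_eq_zero h
    exact hn (by simpa using hS _ (mul_mem Γ he k) 0 hS0)
  · rintro a ⟨ha, ha'⟩ b ⟨hb, -⟩ hab hmod
    obtain ⟨k, hk⟩ := (Nat.modEq_iff_dvd' hab.le).1 hmod
    refine hb ?_
    rw [show b = a + e * k by omega]
    exact ha' _ (mul_mem Γ he k) (by omega)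
  · rintro n ⟨-, hn0, hn⟩ h
    exact hn n (by rw [← Nat.div_add_mod n e, h, add_zero]; exact mul_mem Γ he _) hn0 le_rfl (by simpa using hS0)
  · rintro a ⟨ha, -⟩ b ⟨-, -, hb'⟩ hab hmod
    obtain ⟨k, hk⟩ := (Nat.modEq_iff_dvd' hab.le).1 hmod
    refine hb' (e * k) (mul_mem Γ he k) (by omega) (by omega) ?_
    rw [show b - e * k = a by omega]
    exact ha

include hc hc0 hc1

theorem card_below_le (S : Set ℕ) (hS : ∀ γ : ℕ, γ ∈ Γ → ∀ s : ℕ, s ∈ S → γ + s ∈ S)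
    (cS : ℕ) (hcS1 : cS = 0 ∨ cS - 1 ∉ S) : {s : ℕ | s ∈ S ∧ s < cS}.ncard ≤ (↑Γ : Set ℕ)ᶜ.ncard := by
  have hfin : ((↑Γ : Set ℕ)ᶜ).Finite := (Set.finite_Iio c).subset fun n hn => lt_of_notMem Γ c hc hc0 hc1 hn
  refine Set.ncard_le_ncard_of_injOn (fun s => cS - 1 - s) ?_ ?_ hfin
  · rintro s ⟨hs, hlt⟩ hmem
    rcases hcS1 with h | h
    · omega
    · exact h (by rw [show cS - 1 = (cS - 1 - s) + s by omega]; exact hS _ hmem s hs)
  · rintro s ⟨-, hs⟩ t ⟨-, ht⟩ h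
    simp only at h
    omega

theorem step_up_down (S : Set ℕ) (hS0 : (0 : ℕ) ∈ S) (hS : ∀ γ : ℕ, γ ∈ Γ → ∀ s : ℕ, s ∈ S → γ + s ∈ S) :
    (S ≠ Set.univ → ∃ n : ℕ, n ∉ S ∧ ∀ γ : ℕ, γ ∈ Γ → γ ≠ 0 → n + γ ∈ S) ∧
    ((↑Γ : Set ℕ) ≠ S → ∃ s : ℕ, s ∈ S ∧ s ∉ Γ ∧ ∀ γ : ℕ, γ ∈ Γ → γ ≠ 0 → γ ≤ s → s - γ ∉ S) := by
  classical
  have hsub : (↑Γ : Set ℕ) ⊆ S := fun γ hγ => by simpa using hS γ hγ 0 hS0
  constructor
  · intro h
    obtain ⟨n, hn⟩ := (Set.ne_univ_iff_exists_notMem S).1 h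
    have hlt : ∀ m, m ∉ S → m ≤ c := fun m hm => (lt_of_notMem Γ c hc hc0 hc1 fun h' => hm (hsub h')).le
    refine ⟨Nat.findGreatest (· ∉ S) c, Nat.findGreatest_spec (P := (· ∉ S)) (hlt n hn) hn, fun γ _ h0 => ?_⟩
    by_contra hγ
    have := Nat.le_findGreatest (P := (· ∉ S)) (hlt _ hγ) hγ
    omega
  · intro h
    have hex : ∃ s, s ∈ S ∧ s ∉ Γ := by
      by_contra h'
      push Not at h'
      exact h (Set.Subset.antisymm hsub h')
    obtain ⟨hs, hsΓ⟩ := Nat.find_spec hex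
    refine ⟨Nat.find hex, hs, hsΓ, fun γ hγ hγ0 hle hmem => ?_⟩
    by_cases h1 : Nat.find hex - γ ∈ Γ
    · exact hsΓ (by rw [show Nat.find hex = (Nat.find hex - γ) + γ by omega]; exact Γ.add_mem h1 hγ)
    · exact Nat.find_min hex (m := Nat.find hex - γ) (by omega) ⟨hmem, h1⟩

end Groth.Agent.SmallAlgLib.NumSgp
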