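import Mathlib

/-! Increasing enumerations of cofinite sets of naturals. -/

set_option autoImplicit false

namespace Groth.Agent.SmallAlgLib.NthL

open Nat

theorem infinite {S : Set ℕ} {c : ℕ} (hc : ∀ n, c ≤ n → n ∈ S) : (Set.ofPred (fun m => m ∈ S)).Infinite :=
  Set.infinite_of_injective_forall_mem (f := fun n => c + n) (fun a b h => by simpa using h) fun n => hc _ (le_add_right c n)

theorem insert_le_iff (S : Set ℕ) (cS : ℕ) (hcS : ∀ n, cS ≤ n → n ∈ S) (hcS0 : cS ≠ 0) (hcS1 : cS - 1 ∉ S) (s : ℕ)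
    (hs : s ∉ S) : (∀ i : ℕ, Nat.nth (fun m => m ∈ S) i ≤ Nat.nth (fun m => m ∈ insert s S) i + 1) ↔ s + 1 = cS := by
  classical
  have hS := infinite hcS
  have hT := infinite (S := insert s S) (c := cS) fun n hn => Or.inr (hcS n hn)
  have hcount : ∀ n, Nat.count (fun m => m ∈ insert s S) n = Nat.count (fun m => m ∈ S) n + (if s < n then 1 else 0) := by
    intro n
    induction n with
    | zero => simp
    | succ n ih =>
      rw [Nat.count_succ, Nat.count_succ, ih]
      by_cases h : n = s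
      · subst h; simp [hs]
      · have : (n ∈ insert s S) ↔ n ∈ S := by simp [h]
        simp only [this]
        rcases lt_or_gt_of_ne h with h' | h' <;> simp [h'.le, h', Nat.lt_succ_iff, not_lt.2, not_le.2] <;> omega
  have hlt : s < cS := lt_of_not_ge fun h => hs (hcS s h)
  constructor
  · intro h
    by_contra hne
    have hex : ∃ g, s < g ∧ g ∉ S := ⟨cS - 1, by omega, hcS1⟩
    obtain ⟨hg, hgS⟩ := Nat.find_spec hex
    have ht : Nat.find hex - 1 ∈ insert s S := by
      by_cases h' : Nat.find hex - 1 = s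
      · exact Or.inl h'
      · refine Or.inr (by_contra fun hn => ?_)
        exact Nat.find_min hex (m := Nat.find hex - 1) (by omega) ⟨by omega, hn⟩
    generalize Nat.find hex = g at hg hgS ht
    obtain ⟨t, rfl⟩ : ∃ t, g = t + 1 := ⟨g - 1, by omega⟩
    simp only [add_tsub_cancel_right] at ht
    have h1 := h (Nat.count (fun m => m ∈ insert s S) t)
    rw [Nat.nth_count (p := fun m => m ∈ insert s S) ht] at h1
    have h3 : Nat.count (fun m => m ∈ S) (t + 2) ≤ Nat.count (fun m => m ∈ insert s S) t := by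
      rw [hcount, Nat.count_succ, if_neg hgS, Nat.count_succ]
      by_cases htS : t ∈ S
      · rw [if_pos htS, if_pos (lt_of_le_of_ne (by omega) fun e => hs (by rw [e]; exact htS))]
      · rw [if_neg htS]; omega
    have := (Nat.count_le_iff_le_nth hS).1 h3
    omega
  · intro he i
    have h1 := Nat.count_nth_of_infinite hT i
    have h2 : Nat.nth (fun m => m ∈ insert s S) i ∈ insert s S := Nat.nth_mem_of_infinite hT i
    generalize Nat.nth (fun m => m ∈ insert s S) i = t at h1 h2
    rw [← Nat.lt_add_one_iff]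
    refine Nat.nth_lt_of_lt_count (p := fun m => m ∈ S) ?_
    rw [← h1, hcount, Nat.count_succ, Nat.count_succ]
    by_cases h : s < t
    · rw [if_pos h, if_pos (hcS t (by omega)), if_pos (hcS (t + 1) (by omega))]
      omega
    · rw [if_neg h]
      rcases h2 with rfl | h2
      · rw [if_pos (hcS (t + 1) (by omega))]; omega
      · rw [if_pos h2]; split <;> omega

variable (S : Set ℕ) [DecidablePred fun m => m ∈ S] (cS : ℕ) (hcS : ∀ n, cS ≤ n → n ∈ S)

theorem count_eq_ncard (n : ℕ) : Nat.count (fun m => m ∈ S) n = (S ∩ Set.Iio n).ncard := by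
  rw [Nat.count_eq_card_filter_range, ← Set.ncard_coe_finset]
  congr 1
  ext m
  simp [and_comm]

include hcS

theorem compl_add_count : Sᶜ.ncard + Nat.count (fun m => m ∈ S) cS = cS := by
  rw [count_eq_ncard]
  have h : Sᶜ = Set.Iio cS \ S := by
    ext m
    simp only [Set.mem_compl_iff, Set.mem_sdiff, Set.mem_Iio]
    exact ⟨fun h => ⟨lt_of_not_ge fun h' => h (hcS m h'), h⟩, fun h => h.2⟩
  rw [h, Set.inter_comm, add_comm, Set.ncard_inter_add_ncard_sdiff_eq_ncard _ _ (Set.finite_Iio cS), Set.ncard_Iio_nat]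

theorem gaps (i : ℕ) :
    Nat.nth (fun m => m ∈ S) i ≤ i + Sᶜ.ncard ∧
    (Nat.count (fun m => m ∈ S) cS ≤ i → Nat.nth (fun m => m ∈ S) i = i + Sᶜ.ncard) ∧
    ((cS = 0 ∨ cS - 1 ∉ S) → i < Nat.count (fun m => m ∈ S) cS → Nat.nth (fun m => m ∈ S) i < i + Sᶜ.ncard) := by
  classical
  have hS := infinite hcS
  have hadd := compl_add_count S cS hcS
  have hsum : ∀ n, Nat.count (fun m => m ∈ S) n + Nat.count (fun m => m ∉ S) n = n := by
    intro n
    induction n with
    | zero => simp
    | succ n ih =>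
      rw [Nat.count_succ, Nat.count_succ]
      by_cases h : n ∈ S <;> simp [h] <;> omega
  have hle : ∀ n, n ≤ cS → Nat.count (fun m => m ∉ S) n ≤ Sᶜ.ncard := fun n hn => by
    have := Nat.count_monotone (fun m => m ∉ S) hn
    have := hsum cS
    omega
  have hbeyond : ∀ n, cS ≤ n → Nat.count (fun m => m ∉ S) n = Sᶜ.ncard := by
    intro n hn
    induction n, hn using Nat.le_induction with
    | base => have := hsum cS; omega
    | succ n hn ih => rw [Nat.count_succ, ih, if_neg (not_not.2 (hcS n hn)), add_zero]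
  have h1 := hsum (Nat.nth (fun m => m ∈ S) i)
  rw [Nat.count_nth_of_infinite hS i] at h1
  refine ⟨?_, fun hi => ?_, fun hc hi => ?_⟩
  · rcases le_total (Nat.nth (fun m => m ∈ S) i) cS with h | h
    · have := hle _ h; omega
    · have := hbeyond _ h; omega
  · have := hbeyond _ ((Nat.count_le_iff_le_nth hS).1 hi)
    omega
  · have hlt := Nat.nth_lt_of_lt_count hi
    have h0 : cS - 1 ∉ S := hc.resolve_left (by omega)
    have hmem : Nat.nth (fun m => m ∈ S) i ∈ S := Nat.nth_mem_of_infinite hS i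
    have h2 := Nat.count_monotone (fun m => m ∉ S) (show Nat.nth (fun m => m ∈ S) i ≤ cS - 1 by omega)
    have h3 := Nat.count_succ (p := fun m => m ∉ S) (cS - 1)
    rw [if_pos h0, show cS - 1 + 1 = cS by omega] at h3
    have := hle cS le_rfl
    omega

omit hcS

theorem tauLE_iff (S' : Set ℕ) [DecidablePred fun m => m ∈ S'] (cS' : ℕ) (hcS : ∀ n, cS ≤ n → n ∈ S)
    (hcS' : ∀ n, cS' ≤ n → n ∈ S') (hcS'1 : cS' = 0 ∨ cS' - 1 ∉ S') :
    (∀ i : ℕ, Nat.nth (fun m => m ∈ S) i + S'ᶜ.ncard ≤ Nat.nth (fun m => m ∈ S') i + Sᶜ.ncard) ↔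
    ((S' ∩ Set.Iio cS').ncard ≤ (S ∩ Set.Iio cS).ncard ∧ ∀ i : ℕ, i < (S' ∩ Set.Iio cS').ncard →
      Nat.nth (fun m => m ∈ S) i + S'ᶜ.ncard ≤ Nat.nth (fun m => m ∈ S') i + Sᶜ.ncard) := by
  rw [← count_eq_ncard, ← count_eq_ncard]
  refine ⟨fun h => ⟨?_, fun i _ => h i⟩, fun ⟨_, h⟩ i => ?_⟩
  · by_contra hlt
    have h1 := (gaps S cS hcS _).2.1 le_rfl
    have h2 := (gaps S' cS' hcS' _).2.2 hcS'1 (not_le.1 hlt)
    have := h (Nat.count (fun m => m ∈ S) cS)
    omega
  · by_cases hi : i < Nat.count (fun m => m ∈ S') cS'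
    · exact h i hi
    · have := (gaps S cS hcS i).1
      have := (gaps S' cS' hcS' i).2.1 (not_lt.1 hi)
      omega

end Groth.Agent.SmallAlgLib.NthL
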