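import Mathlib
import Groth.Prelude.Def_DualLC

/-! Independent families of ring elements. -/

set_option autoImplicit false

universe u

namespace Groth.Agent.SmallAlgLib.Indep

open Function

variable {A : Type u} [CommRing A] {r : ℕ} (f : Fin r → A) (k : Fin r) (g : A)

theorem update_mul_apply (i : Fin r) : update f k (f k * g) i = f i * (if i = k then g else 1) := by
  by_cases h : i = k
  · subst h; simp
  · simp [h]

theorem span_update_le : Ideal.span (Set.range (update f k (f k * g))) ≤ Ideal.span (Set.range f) := by
  rw [Ideal.span_le]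
  rintro _ ⟨i, rfl⟩
  rw [update_mul_apply]
  exact Ideal.mul_mem_right _ _ (Ideal.subset_span ⟨i, rfl⟩)

theorem span_update_le' : Ideal.span (Set.range (update f k (f k * g))) ≤ Ideal.span (Set.range (update f k g)) := by
  rw [Ideal.span_le]
  rintro _ ⟨i, rfl⟩
  by_cases h : i = k
  · subst h
    rw [update_self]
    exact Ideal.mul_mem_left _ _ (Ideal.subset_span ⟨i, update_self ..⟩)
  · rw [update_of_ne h]
    exact Ideal.subset_span ⟨i, update_of_ne h ..⟩

variable {f k g} (h : Dual2.Independent (update f k (f k * g)))

include h

theorem coeff_mem {a : Fin r → A} (ha : ∑ i, a i * f i = 0) :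
    a k ∈ Ideal.span (Set.range (update f k (f k * g))) := by
  have := h (fun i => a i * if i = k then 1 else g) (by
    have : ∀ i, (a i * if i = k then 1 else g) * update f k (f k * g) i = g * (a i * f i) := fun i => by
      rw [update_mul_apply]
      split <;> ring
    rw [Finset.sum_congr rfl fun i _ => this i, ← Finset.mul_sum, ha, mul_zero]) k
  simpa using this

theorem independent : Dual2.Independent f := by
  intro a ha i
  have hk := coeff_mem h ha
  obtain ⟨c, hc⟩ := Ideal.mem_span_range_iff_exists_fun.1 hk
  by_cases hi : i = k
  · subst hi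
    exact span_update_le f i g hk
  · have := h (fun j => if j = k then c k * f k else a j + c j * f k) (by
      have : ∀ j, (if j = k then c k * f k else a j + c j * f k) * update f k (f k * g) j =
          a j * f j + f k * (c j * update f k (f k * g) j) - (if j = k then a k * f k else 0) := fun j => by
        by_cases hj : j = k
        · subst hj; rw [update_mul_apply]; simp; ring
        · rw [update_of_ne hj]; simp [hj]; ring
      rw [Finset.sum_congr rfl fun j _ => this j, Finset.sum_sub_distrib, Finset.sum_add_distrib, ha, ← Finset.mul_sum,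
        hc, Finset.sum_ite_eq' Finset.univ k fun _ => a k * f k, if_pos (Finset.mem_univ k)]
      ring) i
    simp only [if_neg hi] at this
    have h2 : c i * f k ∈ Ideal.span (Set.range f) := Ideal.mul_mem_left _ _ (Ideal.subset_span ⟨k, rfl⟩)
    simpa using Submodule.sub_mem _ (span_update_le f k g this) h2

theorem mem_of_mul_mem {x : A} (hx : x * f k ∈ Ideal.span (Set.range (update f k (f k * g)))) :
    x ∈ Ideal.span (Set.range (update f k g)) := by
  obtain ⟨c, hc⟩ := Ideal.mem_span_range_iff_exists_fun.1 hx
  have := coeff_mem h (a := fun i => if i = k then x - c k * g else -c i) (by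
    have : ∀ i, (if i = k then x - c k * g else -c i) * f i =
        (if i = k then x * f k else 0) - c i * update f k (f k * g) i := fun i => by
      by_cases hi : i = k
      · subst hi; rw [update_mul_apply]; simp; ring
      · rw [update_of_ne hi]; simp [hi]
    rw [Finset.sum_congr rfl fun i _ => this i, Finset.sum_sub_distrib, hc,
      Finset.sum_ite_eq' Finset.univ k fun _ => x * f k, if_pos (Finset.mem_univ k), sub_self])
  simp only [if_true] at this
  simpa using Submodule.add_mem _ (span_update_le' f k g this)
    (Ideal.mul_mem_left _ (c k) (Ideal.subset_span ⟨k, update_self ..⟩))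

theorem length_quotient : Module.length A (A ⧸ Ideal.span (Set.range (update f k (f k * g)))) =
    Module.length A (A ⧸ Ideal.span (Set.range f)) + Module.length A (A ⧸ Ideal.span (Set.range (update f k g))) := by
  set J := Ideal.span (Set.range (update f k (f k * g)))
  set J' := Ideal.span (Set.range (update f k g))
  let φ : (A ⧸ J') →ₗ[A] (A ⧸ J) := Submodule.mapQ J' J (LinearMap.toSpanSingleton A A (f k)) <| by
    rw [Ideal.span_le]
    rintro _ ⟨i, rfl⟩
    show update f k g i * f k ∈ J
    by_cases hi : i = k
    · subst hi
      rw [update_self, mul_comm]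
      exact Ideal.subset_span ⟨i, update_self ..⟩
    · rw [update_of_ne hi]
      exact Ideal.mul_mem_right _ _ (Ideal.subset_span ⟨i, update_of_ne hi ..⟩)
  let ψ : (A ⧸ J) →ₗ[A] (A ⧸ Ideal.span (Set.range f)) := Submodule.factor (span_update_le f k g)
  have hφ : Function.Injective φ := by
    rw [injective_iff_map_eq_zero]
    intro x hx
    obtain ⟨x, rfl⟩ := Submodule.Quotient.mk_surjective _ x
    rw [Submodule.mapQ_apply, Submodule.Quotient.mk_eq_zero] at hx
    exact (Submodule.Quotient.mk_eq_zero _).2 (mem_of_mul_mem h hx)
  have hex : Function.Exact φ ψ := by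
    intro z
    obtain ⟨z, rfl⟩ := Submodule.Quotient.mk_surjective _ z
    constructor
    · intro hz
      change Submodule.Quotient.mk z = (0 : A ⧸ Ideal.span (Set.range f)) at hz
      obtain ⟨c, hc⟩ := Ideal.mem_span_range_iff_exists_fun.1 ((Submodule.Quotient.mk_eq_zero _).1 hz)
      refine ⟨Submodule.Quotient.mk (c k), ?_⟩
      rw [Submodule.mapQ_apply, LinearMap.toSpanSingleton_apply, smul_eq_mul, Submodule.Quotient.eq, ← hc,
        ← Finset.add_sum_erase _ _ (Finset.mem_univ k), sub_add_cancel_left]
      refine neg_mem (Ideal.sum_mem _ fun i hi => Ideal.mul_mem_left _ _ ?_)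
      exact Ideal.subset_span ⟨i, update_of_ne (Finset.ne_of_mem_erase hi) ..⟩
    · rintro ⟨x, hx⟩
      obtain ⟨x, rfl⟩ := Submodule.Quotient.mk_surjective _ x
      rw [← hx, Submodule.mapQ_apply]
      change Submodule.Quotient.mk (x • f k) = (0 : A ⧸ Ideal.span (Set.range f))
      rw [Submodule.Quotient.mk_eq_zero]
      exact Ideal.mul_mem_left _ _ (Ideal.subset_span ⟨k, rfl⟩)
  rw [Module.length_eq_add_of_exact φ ψ hφ (Submodule.factor_surjective _) hex, add_comm]

omit h

/-- Length of the quotient by powers of generators of the maximal ideal. -/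
theorem length_quotient_pow [IsLocalRing A] {x : Fin r → A} (hx : Ideal.span (Set.range x) = IsLocalRing.maximalIdeal A)
    (e : Fin r → ℕ) (he : ∀ i, 0 < e i) (hind : Dual2.Independent (fun i => x i ^ e i)) :
    Module.length A (A ⧸ Ideal.span (Set.range (fun i => x i ^ e i))) = ∏ i, (e i : ℕ∞) := by
  induction hn : ∑ i, e i using Nat.strong_induction_on generalizing e with
  | _ n ih =>
    by_cases hall : ∀ i, e i = 1
    · have he1 : (fun i => x i ^ e i) = x := funext fun i => by rw [hall i, pow_one]
      rw [he1, hx, Finset.prod_eq_one fun i _ => by rw [hall i, Nat.cast_one]]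
      haveI : IsSimpleModule A (A ⧸ IsLocalRing.maximalIdeal A) :=
        isSimpleModule_iff_isCoatom.2 (IsLocalRing.maximalIdeal.isMaximal A).out
      exact Module.length_eq_one A _
    · obtain ⟨k, hk⟩ := not_forall.1 hall
      have hk2 : 2 ≤ e k := by have := he k; omega
      have hfe : ∀ (e' : Fin r → ℕ) (v : ℕ),
          update (fun i => x i ^ e' i) k (x k ^ v) = fun i => x i ^ update e' k v i := fun e' v => by
        funext i
        by_cases hi : i = k
        · subst hi; simp
        · simp [hi]
      let e₁ := update e k (e k - 1)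
      let e₂ := update e k 1
      let f : Fin r → A := fun i => x i ^ e₁ i
      have hfk : f k = x k ^ (e k - 1) := by simp [f, e₁]
      have hu : update f k (f k * x k) = fun i => x i ^ e i := by
        rw [hfk, ← pow_succ, hfe, show e k - 1 + 1 = e k by omega, update_idem, update_eq_self]
      have hu2 : update f k (x k) = fun i => x i ^ e₂ i := by
        conv_lhs => rw [← pow_one (x k)]
        rw [hfe, update_idem]
      rw [← hu] at hind ⊢
      have h1 := independent hind
      have h2 : Dual2.Independent (update f k (x k)) := by
        refine independent (f := update f k (x k)) (k := k) (g := f k) ?_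
        rwa [update_idem, update_self, mul_comm]
      rw [hu2] at h2
      have hsum : ∀ v, v < e k → ∑ i, update e k v i < n := fun v hv => by
        rw [← hn]
        exact Finset.sum_lt_sum (fun i _ => by
          by_cases hi : i = k
          · subst hi; simpa using hv.le
          · simp [hi]) ⟨k, Finset.mem_univ k, by simpa using hv⟩
      have hpos : ∀ v, 0 < v → ∀ i, 0 < update e k v i := fun v hv i => by
        by_cases hi : i = k
        · subst hi; simpa using hv
        · simpa [hi] using he i
      rw [length_quotient hind, ih _ (hsum _ (by omega)) e₁ (hpos _ (by omega)) h1 rfl, hu2,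
        ih _ (hsum _ (by omega)) e₂ (hpos _ one_pos) h2 rfl]
      have key : ∀ v : ℕ, (∏ i, (update e k v i : ℕ∞)) = (v : ℕ∞) * ∏ i ∈ Finset.univ.erase k, (e i : ℕ∞) := fun v => by
        rw [← Finset.mul_prod_erase _ _ (Finset.mem_univ k), update_self]
        exact congrArg _ (Finset.prod_congr rfl fun i hi => by rw [update_of_ne (Finset.ne_of_mem_erase hi)])
      rw [key, key, ← add_mul, ← Nat.cast_add, show e k - 1 + 1 = e k by omega]
      exact Finset.mul_prod_erase Finset.univ (fun i => (e i : ℕ∞)) (Finset.mem_univ k)

theorem map_of_flat (B : Type u) [CommRing B] [Algebra A B] [Module.Flat A B] (hf : Dual2.Independent f) :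
    Dual2.Independent (fun i => algebraMap A B (f i)) := by
  intro b hb i
  obtain ⟨κ, a, y, hx, hy⟩ := Module.Flat.isTrivialRelation_of_sum_smul_eq_zero (f := f) (x := b) (by
    rw [← hb]
    exact Finset.sum_congr rfl fun j _ => by rw [Algebra.smul_def, mul_comm])
  rw [hx i]
  refine Ideal.sum_mem _ fun j _ => ?_
  rw [Algebra.smul_def]
  refine Ideal.mul_mem_right _ _ ?_
  have h1 := Ideal.mem_map_of_mem (algebraMap A B) (hf (fun l => a l j) (by simpa [mul_comm] using hy j) i)
  rwa [Ideal.map_span, ← Set.range_comp] at h1

end Groth.Agent.SmallAlgLib.Indep
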