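import Mathlib
import Groth.Prelude.Def_W4c5stcicurvesp3Euclid

/-! Iterated Euclidean remainders and quotients. -/

set_option autoImplicit false

open W4c5stcicurvesp3

namespace Groth.Agent.SmallAlgLib

theorem div_mul_gcd_le (k N : ℕ) (hk : 0 < k) (hkN : k < N) (hndvd : ¬ k ∣ N) : N / k * Nat.gcd k N ≤ N - k := by
  set g := Nat.gcd k N
  have hr : 0 < N % k := Nat.pos_of_ne_zero fun h => hndvd (Nat.dvd_of_mod_eq_zero h)
  have hgr : g ≤ N % k := Nat.le_of_dvd hr ((Nat.dvd_mod_iff (Nat.gcd_dvd_left k N)).2 (Nat.gcd_dvd_right k N))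
  have h2g : 2 * g ≤ k := by
    obtain ⟨b, hb⟩ := Nat.gcd_dvd_left k N
    have hb1 : b ≠ 1 := fun h => hndvd (by rw [h, mul_one] at hb; rw [hb]; exact Nat.gcd_dvd_right k N)
    have hb0 : b ≠ 0 := by rintro rfl; simp at hb; omega
    rw [hb, mul_comm 2 g]
    exact Nat.mul_le_mul_left _ (by omega)
  have hN := Nat.div_add_mod N k
  obtain ⟨q, hq⟩ : ∃ q, N / k = q + 1 := ⟨N / k - 1, by have := Nat.div_pos hkN.le hk; omega⟩
  rw [hq] at hN ⊢
  have h3 : q * (2 * g) ≤ q * k := Nat.mul_le_mul_left q h2g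
  have h4 : k * (q + 1) = q * k + k := by ring
  have h5 : (q + 1) * g = q * g + g := by ring
  have h6 : q * (2 * g) = q * g + q * g := by ring
  omega

variable (N k : ℕ)

theorem irem_add_two (n : ℕ) : irem N k (n + 2) = if irem N k (n + 1) = 0 then 0 else irem N k n % irem N k (n + 1) := rfl

theorem idiv_add_two (n : ℕ) : idiv N k (n + 2) = if irem N k (n + 1) = 0 then 0 else irem N k n / irem N k (n + 1) := rfl

theorem irem_succ (hr : N % k ≠ 0) : ∀ n, irem N k (n + 1) = irem k (N % k) n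
  | 0 => by simp [irem]
  | 1 => by rw [irem_add_two N k 0, if_neg (by simpa [irem] using hr)]; simp [irem]
  | n + 2 => by
    rw [show n + 2 + 1 = (n + 1) + 2 from rfl, irem_add_two N k, irem_add_two k (N % k), irem_succ hr (n + 1), irem_succ hr n]

theorem idiv_succ (hr : N % k ≠ 0) : ∀ n, idiv N k (n + 2) = idiv k (N % k) (n + 1)
  | 0 => by
    have h : irem N k (0 + 1) ≠ 0 := by simpa [irem] using hr
    rw [idiv_add_two, if_neg h]
    simp [irem, idiv]
  | n + 1 => by
    rw [idiv_add_two, idiv_add_two, irem_succ N k hr (n + 1), irem_succ N k hr n]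

theorem sum_idiv_succ (hr : N % k ≠ 0) (n : ℕ) :
    ∑ i ∈ Finset.Icc 1 (n + 1), idiv N k i = N / k + ∑ i ∈ Finset.Icc 1 n, idiv k (N % k) i := by
  induction n with
  | zero => simp [idiv]
  | succ n ih =>
    rw [Finset.sum_Icc_succ_top (by omega : 1 ≤ n + 1 + 1), ih, idiv_succ N k hr,
      Finset.sum_Icc_succ_top (by omega : 1 ≤ n + 1)]
    omega

/-- `(d_1 + ⋯ + d_t) gcd(k, N) ≤ N`. -/
theorem sum_idiv_mul_gcd_le : ∀ (k N t : ℕ), 0 < k → k ≤ N → 0 < t → irem N k t = 0 →
    (∀ i, 0 < i → i < t → irem N k i ≠ 0) → (∑ i ∈ Finset.Icc 1 t, idiv N k i) * Nat.gcd k N ≤ N := by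
  intro k
  induction k using Nat.strong_induction_on with
  | _ k ih =>
    intro N t hk hkN ht hzero hmin
    obtain ⟨n, rfl⟩ : ∃ n, t = n + 1 := ⟨t - 1, by omega⟩
    by_cases hr : N % k = 0
    · have hn : n = 0 := by
        by_contra hn
        exact hmin 1 Nat.one_pos (by omega) (by simpa [irem] using hr)
      subst hn
      simp only [zero_add, Finset.Icc_self, Finset.sum_singleton, idiv]
      rw [Nat.gcd_eq_left (Nat.dvd_of_mod_eq_zero hr)]
      exact Nat.div_mul_le_self N k
    · have hn : 0 < n := by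
        rcases Nat.eq_zero_or_pos n with rfl | h
        · exact absurd (by simpa [irem] using hzero) hr
        · exact h
      have hlt : N % k < k := Nat.mod_lt N hk
      have hkN' : k < N := lt_of_le_of_ne hkN fun h => hr (by rw [h, Nat.mod_self])
      have h := ih (N % k) hlt k n (Nat.pos_of_ne_zero hr) hlt.le hn (by rw [← irem_succ N k hr]; exact hzero)
        fun i hi hin => by rw [← irem_succ N k hr]; exact hmin (i + 1) (by omega) (by omega)
      rw [sum_idiv_succ N k hr, add_mul]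
      rw [← Nat.gcd_rec] at h
      have h2 := div_mul_gcd_le k N hk hkN' fun hd => hr (Nat.mod_eq_zero_of_dvd hd)
      omega

/-- The telescoping bound with an offset. -/
theorem telescoping_bound : ∀ (k N t : ℕ) (c : ℚ), 0 ≤ c → 0 < k → k ≤ N → 0 < t → irem N k t = 0 →
    (∀ i, 0 < i → i < t → irem N k i ≠ 0) →
    ∑ i ∈ Finset.range t, ((irem N k i : ℚ) - irem N k (i + 1)) / (c + ∑ j ∈ Finset.Icc 1 (i + 1), (idiv N k j : ℚ))
      ≤ (k : ℚ) ^ 2 / (N + c * k) := by
  intro k
  induction k using Nat.strong_induction_on with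
  | _ k ih =>
    intro N t c hc hk hkN ht hzero hmin
    obtain ⟨n, rfl⟩ : ∃ n, t = n + 1 := ⟨t - 1, by omega⟩
    have hq : (1 : ℚ) ≤ (N / k : ℕ) := by exact_mod_cast Nat.div_pos hkN hk
    have hN : (N : ℚ) = k * (N / k : ℕ) + (N % k : ℕ) := by exact_mod_cast (Nat.div_add_mod N k).symm
    have hkq : (0 : ℚ) < k := by exact_mod_cast hk
    by_cases hr : N % k = 0
    · have hn : n = 0 := by
        by_contra hn
        exact hmin 1 Nat.one_pos (by omega) (by simpa [irem] using hr)
      subst hn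
      simp only [zero_add, Finset.range_one, Finset.sum_singleton, Finset.Icc_self, irem, idiv, hr, Nat.cast_zero, sub_zero]
      rw [hN, hr, Nat.cast_zero, add_zero]
      have hQ : (0 : ℚ) < c + (N / k : ℕ) := by linarith
      rw [show (k : ℚ) * (N / k : ℕ) + c * k = k * (c + (N / k : ℕ)) by ring, pow_two, mul_div_mul_left _ _ hkq.ne']
    · have hn : 0 < n := by
        rcases Nat.eq_zero_or_pos n with rfl | h
        · exact absurd (by simpa [irem] using hzero) hr
        · exact h
      have hlt : N % k < k := Nat.mod_lt N hk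
      have h := ih (N % k) hlt k n (c + (N / k : ℕ)) (by linarith) (Nat.pos_of_ne_zero hr) hlt.le hn
        (by rw [← irem_succ N k hr]; exact hzero)
        fun i hi hin => by rw [← irem_succ N k hr]; exact hmin (i + 1) (by omega) (by omega)
      rw [Finset.sum_range_succ']
      have hterm : ∀ i ∈ Finset.range n, ((irem N k (i + 1) : ℚ) - irem N k (i + 1 + 1)) /
            (c + ∑ j ∈ Finset.Icc 1 (i + 1 + 1), (idiv N k j : ℚ)) =
          ((irem k (N % k) i : ℚ) - irem k (N % k) (i + 1)) /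
            (c + (N / k : ℕ) + ∑ j ∈ Finset.Icc 1 (i + 1), (idiv k (N % k) j : ℚ)) := fun i _ => by
        rw [irem_succ N k hr, irem_succ N k hr,
          show (∑ j ∈ Finset.Icc 1 (i + 1 + 1), (idiv N k j : ℚ)) =
            ((N / k : ℕ) : ℚ) + ∑ j ∈ Finset.Icc 1 (i + 1), (idiv k (N % k) j : ℚ) by
              exact_mod_cast sum_idiv_succ N k hr (i + 1), add_assoc]
      rw [Finset.sum_congr rfl hterm]
      simp only [zero_add, Finset.Icc_self, Finset.sum_singleton, irem, idiv]
      refine (add_le_add h le_rfl).trans ?_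
      rw [hN]
      have hrQ : (0 : ℚ) < (N % k : ℕ) := by exact_mod_cast Nat.pos_of_ne_zero hr
      have hrk : ((N % k : ℕ) : ℚ) ≤ k := by exact_mod_cast hlt.le
      generalize ((N % k : ℕ) : ℚ) = r at hrQ hrk ⊢
      generalize ((N / k : ℕ) : ℚ) = q at hq ⊢
      have hQ1 : (1 : ℚ) ≤ c + q := by linarith
      rw [show (k : ℚ) * q + r + c * k = (c + q) * k + r by ring]
      generalize c + q = Q at hQ1 ⊢
      have hd1 : 0 < (k : ℚ) + Q * r := by positivity
      have hd2 : 0 < Q * k + r := by positivity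
      rw [div_add_div _ _ hd1.ne' (by linarith : Q ≠ 0), div_le_div_iff₀ (mul_pos hd1 (by linarith)) hd2]
      nlinarith [mul_nonneg (mul_nonneg (mul_nonneg hkq.le hrQ.le) (sub_nonneg.2 hQ1)) (sub_nonneg.2 hrk)]

end Groth.Agent.SmallAlgLib
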