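import Mathlib

/-! Factors of homogeneous polynomials over a domain are homogeneous. -/

set_option autoImplicit false

universe u v

open MvPolynomial

namespace Groth.Agent.SmallAlgLib

variable {σ : Type u} {R : Type v} [CommRing R]

/-- Multiply every variable by an auxiliary variable. -/
noncomputable def scaleVar : MvPolynomial σ R →ₐ[R] Polynomial (MvPolynomial σ R) :=
  aeval fun i => Polynomial.C (X i) * Polynomial.X

theorem scaleVar_monomial (d : σ →₀ ℕ) (r : R) :
    scaleVar (monomial d r) = Polynomial.monomial d.degree (monomial d r) := by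
  induction d using Finsupp.induction generalizing r with
  | zero => simp [scaleVar]
  | single_add i n d hi hn ih =>
    rw [show (Finsupp.single i n + d).degree = n + d.degree by simp [Finsupp.degree_single],
      show monomial (Finsupp.single i n + d) r = X i ^ n * monomial d r by
        rw [X_pow_eq_monomial, monomial_mul, one_mul], map_mul, map_pow, ih]
    rw [show scaleVar (R := R) (X i) = Polynomial.C (X i) * Polynomial.X by simp [scaleVar], mul_pow, ← map_pow,
      ← Polynomial.monomial_one_one_eq_X, Polynomial.monomial_pow, Polynomial.C_mul_monomial,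
      Polynomial.monomial_mul_monomial, one_mul, one_pow, mul_one]

theorem scaleVar_of_isHomogeneous {p : MvPolynomial σ R} {n : ℕ} (hp : p.IsHomogeneous n) :
    scaleVar p = Polynomial.monomial n p := by
  conv_lhs => rw [p.as_sum]
  conv_rhs => rw [p.as_sum]
  rw [map_sum, map_sum]
  refine Finset.sum_congr rfl fun d hd => ?_
  rw [scaleVar_monomial, hp.degree_eq_sum_deg_support hd]
  simp [Finsupp.degree]

theorem coeff_scaleVar (p : MvPolynomial σ R) (m : ℕ) :
    (scaleVar p).coeff m = homogeneousComponent m p := by
  conv_lhs => rw [← sum_homogeneousComponent (φ := p), map_sum, Polynomial.finsetSum_coeff]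
  simp only [scaleVar_of_isHomogeneous (homogeneousComponent_isHomogeneous _ p), Polynomial.coeff_monomial]
  rw [Finset.sum_ite_eq']
  split_ifs with h
  · rfl
  · rw [homogeneousComponent_eq_zero _ _ (by simp at h; omega)]

theorem isHomogeneous_of_mul [IsDomain R] {P Q : MvPolynomial σ R} {n : ℕ} (h : (P * Q).IsHomogeneous n)
    (h0 : P * Q ≠ 0) : ∃ a, P.IsHomogeneous a := by
  have hinj : ∀ p : MvPolynomial σ R, scaleVar p = 0 → p = 0 := fun p hp => by
    rw [← sum_homogeneousComponent (φ := p)]
    exact Finset.sum_eq_zero fun m _ => by rw [← coeff_scaleVar, hp, Polynomial.coeff_zero]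
  have hP : scaleVar P ≠ 0 := fun e => left_ne_zero_of_mul h0 (hinj _ e)
  have hQ : scaleVar Q ≠ 0 := fun e => right_ne_zero_of_mul h0 (hinj _ e)
  have hm : scaleVar P * scaleVar Q = Polynomial.monomial n (P * Q) := by
    rw [← map_mul, scaleVar_of_isHomogeneous h]
  have h1 := congr_arg Polynomial.natDegree hm
  have h2 := congr_arg Polynomial.natTrailingDegree hm
  rw [Polynomial.natDegree_mul hP hQ, Polynomial.natDegree_monomial_eq n h0] at h1
  rw [Polynomial.natTrailingDegree_mul hP hQ, Polynomial.natTrailingDegree_monomial h0] at h2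
  have h3 := Polynomial.natTrailingDegree_le_natDegree (scaleVar P)
  have h4 := Polynomial.natTrailingDegree_le_natDegree (scaleVar Q)
  refine ⟨(scaleVar P).natDegree, ?_⟩
  suffices e : P = homogeneousComponent (scaleVar P).natDegree P by
    conv_lhs => rw [e]
    exact homogeneousComponent_isHomogeneous _ _
  conv_lhs => rw [← sum_homogeneousComponent (φ := P)]
  rw [Finset.sum_eq_single (scaleVar P).natDegree]
  · intro m _ hm'
    rw [← coeff_scaleVar]
    rcases lt_or_gt_of_ne hm' with hlt | hgt
    · exact Polynomial.coeff_eq_zero_of_lt_natTrailingDegree (by omega)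
    · exact Polynomial.coeff_eq_zero_of_natDegree_lt hgt
  · intro hns
    exact homogeneousComponent_eq_zero _ _ (by simp at hns; omega)

end Groth.Agent.SmallAlgLib
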